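import Groth.Agent.DixBrauer.DivSeq.Seq

/-!
The divisor sequence of an integral regular scheme.
-/

universe u

set_option linter.style.haveILetI false
set_option backward.isDefEq.respectTransparency.types false

open CategoryTheory CategoryTheory.Limits AlgebraicGeometry Opposite

namespace Groth.Agent.DixBrauer.DivSeq

variable {X : Scheme.{u}} [IsLocallyNoetherian X]

theorem efact_of_regular (hreg : ∀ x : X, IsRegularLocalRing (X.presheaf.stalk x)) : EFact X := fun U => by
  let g : U.left ⟶ X := U.hom
  haveI : AlgebraicGeometry.Etale g := U.prop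
  exact fact_of_regular_etale g hreg

theorem maxFamily_generic [IsIntegral X] :
    MaxFamily (X := X) (fun _ : PUnit.{u + 2} => genericPoint X) :=
  ⟨fun _ _ _ => Subsingleton.elim _ _,
    fun _ y hy => (hy.antisymm ((genericPoint_spec X).specializes trivial)).eq,
    fun x hx => ⟨PUnit.unit, hx _ ((genericPoint_spec X).specializes trivial)⟩⟩

/-- The divisor sequence at the generic point, for any indexing of the points of codimension one. -/
theorem mono_and_iso [IsIntegral X] (hd : EFact X) {P : X → Prop}
    (hP : ∀ x, P x ↔ ringKrullDim (X.presheaf.stalk x) = 1)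
    (c : Cofan fun x : {x : X // P x} =>
      (EtCoh.push (X.fromSpecResidueField x.1)).obj (EtCoh.const (Spec (X.residueField x.1)) ℤ))
    (hc : IsColimit c) :
    Mono (EtLim.GmPush (X.fromSpecStalk (genericPoint X))) ∧
      Nonempty (cokernel (EtLim.GmPush (X.fromSpecStalk (genericPoint X))) ≅ c.pt) := by
  let η : PUnit.{u + 2} → X := fun _ => genericPoint X
  have hS := shortExact_seq hd (maxFamily_generic (X := X))
  let p := CdLib.CoprodProd.proj (Jm η) PUnit.unit
  have hp1 : Sigma.ι (Jm η) PUnit.unit ≫ p = 𝟙 _ := CdLib.CoprodProd.ι_proj_self _ _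
  haveI : IsIso p := ⟨Sigma.ι (Jm η) PUnit.unit, Sigma.hom_ext _ _ fun i => by
    cases i
    rw [← Category.assoc, hp1, Category.id_comp, Category.comp_id], hp1⟩
  have ha : alpha η ≫ p = EtLim.GmPush (X.fromSpecStalk (genericPoint X)) := alpha_proj η _
  haveI : Mono (alpha η) := hS.mono_f
  haveI : Mono (alpha η ≫ p) := mono_comp _ _
  refine ⟨ha ▸ inferInstance, ⟨?_⟩⟩
  let e : P1 X ≃ {x : X // P x} := Equiv.ulift.trans (Equiv.subtypeEquivRight fun x => (hP x).symm)
  let c' : Cofan (M (X := X)) := Cofan.mk c.pt fun k => c.inj (e k)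
  have hc' : IsColimit c' := by
    refine mkCofanColimit _ (fun s => Cofan.IsColimit.desc hc fun x => s.inj (e.symm x)) (fun s k => ?_)
      fun s m hm => Cofan.IsColimit.hom_ext hc _ _ fun x => ?_
    · show c.inj (e k) ≫ _ = _
      rw [Cofan.IsColimit.fac]
      rfl
    · rw [Cofan.IsColimit.fac]
      exact hm (e.symm x)
  let i₁ : cokernel (EtLim.GmPush (X.fromSpecStalk (genericPoint X))) ≅ cokernel (alpha η) :=
    cokernelIsoOfEq ha.symm ≪≫ cokernelCompIsIso (alpha η) p
  haveI : Epi (seq hd (maxFamily_generic (X := X))).g := hS.epi_g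
  exact i₁ ≪≫ (cokernelIsCokernel (alpha η)).coconePointUniqueUpToIso hS.gIsCokernel ≪≫
    (coproductIsCoproduct (M (X := X))).coconePointUniqueUpToIso hc'

end Groth.Agent.DixBrauer.DivSeq
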