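import Groth.Agent.DixBrauer.DivSeq.Seq
import Groth.Agent.DixBrauer.CurveH2
import Groth.Agent.DixBrauer.TorsionDim

/-!
Cohomological consequences of the divisor sequence on Noetherian schemes.
-/

universe u

set_option linter.style.haveILetI false
set_option backward.isDefEq.respectTransparency.types false

open CategoryTheory CategoryTheory.Limits CategoryTheory.Abelian AlgebraicGeometry Opposite

namespace Groth.Agent.DixBrauer.DivSeq

variable {X : Scheme.{u}} [AlgebraicGeometry.IsNoetherian X]

variable (X) in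
/-- The maximal points. -/
abbrev MaxPt : Type (u + 1) := ULift.{u + 1} {x : X // IsMax x}

theorem finite_maxPt : Finite (MaxPt X) := by
  classical
  choose O hO hx using fun x : X =>
    (exists_isAffineOpen_mem_and_subset (U := (⊤ : X.Opens)) (x := x) trivial)
  obtain ⟨t, ht⟩ := isCompact_univ.elim_finite_subcover (fun x : X => (O x : Set X))
    (fun x => (O x).isOpen) fun x _ => Set.mem_iUnion.2 ⟨x, (hx x).1⟩
  have hfin : {x : X | IsMax x}.Finite := by
    refine (t.finite_toSet.biUnion fun x _ => finite_isMax (hO x)).subset fun q hq => ?_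
    obtain ⟨x, hxt, hqx⟩ := Set.mem_iUnion₂.1 (ht (Set.mem_univ q))
    exact Set.mem_biUnion hxt ⟨hqx, hq⟩
  haveI : Finite {x : X // IsMax x} := hfin.to_subtype
  exact Finite.of_equiv _ Equiv.ulift.symm

noncomputable instance : Fintype (MaxPt X) := haveI := finite_maxPt (X := X); Fintype.ofFinite _

omit [AlgebraicGeometry.IsNoetherian X] in
theorem maxFamily_maxPt : MaxFamily (fun i : MaxPt X => i.down.1) :=
  ⟨fun _ _ h => ULift.ext _ _ (Subtype.ext h), fun i => i.down.2, fun x hx => ⟨⟨⟨x, hx⟩⟩, rfl⟩⟩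

/-- `H¹` of the sheaf of divisors vanishes. -/
theorem subsingleton_H1_div : Subsingleton (EtCoh.H X (∐ M (X := X)) 1) :=
  CdLib.Devissage.subsingleton_H_coprod _ _ fun k =>
    DixBrauer.PointPush.subsingleton_H1_push (k := X.residueField k.down.1) _ _
      (FieldH1.subsingleton_H1 _ (FieldH1.coboundaries_const ℤ (L := X.residueField k.down.1) (𝟙 _)))

theorem isTorsion_div (q : ℕ) : IsAddTorsion (EtCoh.H X (∐ M (X := X)) (q + 1)) :=
  TorsionDim.isTorsion_H_coprod _ _ fun k x => by
    haveI := EtFound.pull_preservesFiniteLimits (CdLib.PointPush.ι k.down.1)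
    exact TorsionCoh.isOfFinAddOrder_push (k := X.residueField k.down.1) (CdLib.PointPush.ι k.down.1) _ _ x

omit [AlgebraicGeometry.IsNoetherian X] in
theorem isField_stalk_maxPt (hd : EFact X) (i : MaxPt X) : IsField (X.presheaf.stalk i.down.1) := by
  have hX : Fact X := fun v => by
    let U : X.Etale := Scheme.Etale.mk (𝟙 X)
    exact hd U v
  haveI := (hX i.down.1).1
  haveI : IsReduced (Spec (X.presheaf.stalk i.down.1)) := inferInstance
  refine IsLocalRing.isField_iff_maximalIdeal_eq.2 ?_
  rw [← primeOf_isMax hX (specializes_rfl (x := i.down.1)) i.down.2]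
  ext a
  rw [CDiv6.mem_primeOf, IsLocalRing.mem_maximalIdeal, mem_nonunits_iff, TopCat.Presheaf.stalkSpecializes_refl]
  rfl

theorem eq_zero_of_HGmPull (hd : EFact X)
    [∀ x : X, PreservesFiniteLimits (EtCoh.pull (X.fromSpecStalk x))] (ξ : EtCoh.H X (EtCoh.Gm X) 2)
    (hξ : ∀ x : X, IsMax x → EtLim.HGmPull (X.fromSpecStalk x) 2 ξ = 0) : ξ = 0 := by
  have hS := shortExact_seq hd (maxFamily_maxPt (X := X))
  have hx : (EtCoh.HF X 2).map (alpha fun i : MaxPt X => i.down.1) ξ = 0 := CurveH2.eq_zero_of_proj _ 2 _ fun i => by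
    rw [← ConcreteCategory.comp_apply, ← Functor.map_comp, alpha_proj]
    letI : Field (X.presheaf.stalk i.down.1) := (isField_stalk_maxPt hd i).toField
    refine DixBrauer.PointPush.injective_hofPush_two (k := X.presheaf.stalk i.down.1) (X.fromSpecStalk i.down.1) _
      (DixBrauer.PointPush.isZero_rpush_one_Gm (k := X.presheaf.stalk i.down.1) _) ?_
    exact (hξ _ i.down.2).trans (map_zero _).symm
  obtain ⟨y, hy⟩ := Ext.covariant_sequence_exact₁ _ hS ξ hx (rfl : 1 + 1 = 2)
  rw [← hy, (subsingleton_H1_div (X := X)).elim y 0, Ext.zero_comp]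

theorem isTorsion_H_Gm (hd : EFact X) (q : ℕ) : IsAddTorsion (EtCoh.H X (EtCoh.Gm X) (q + 2)) := by
  refine TorsionDim.isTorsion_ext₁ (shortExact_seq hd (maxFamily_maxPt (X := X))) _ (q + 1) (isTorsion_div q)
    (TorsionDim.isTorsion_H_coprod _ _ fun i x => ?_)
  haveI := EtFound.pull_preservesFiniteLimits (X.fromSpecStalk i.down.1)
  letI : Field (X.presheaf.stalk i.down.1) := (isField_stalk_maxPt hd i).toField
  exact TorsionCoh.isOfFinAddOrder_push (k := X.presheaf.stalk i.down.1) (X.fromSpecStalk i.down.1) _ _ x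

end Groth.Agent.DixBrauer.DivSeq
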