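import Groth.Agent.DixBrauer.DivSeq.Spread
import Groth.Agent.EtStalk.Basic
import Groth.Agent.MorLib.WeightFlat
import Groth.Agent.RegUFD.Basic
import Groth.Agent.CdLib.LevelMap

/-!
Orders and étale morphisms.
-/

universe u

set_option linter.style.haveILetI false
set_option backward.isDefEq.respectTransparency.types false

open CategoryTheory AlgebraicGeometry IsLocalRing TopologicalSpace

namespace Groth.Agent.DixBrauer.DivSeq

variable {X X' : Scheme.{u}} (g : X' ⟶ X) [AlgebraicGeometry.Etale g]

theorem isMax_of_map {u : X'} (hu : IsMax (g.base u)) : IsMax u := fun y hy => by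
  haveI := CdLib.LevelMap.locallyQuasiFinite_of_formallyUnramified g
  exact (g.isDiscrete_preimage_singleton (g.base u)).eq_of_specializes hy (hu _ (hy.map g.continuous)) rfl

theorem isMax_map {u : X'} (hu : IsMax u) : IsMax (g.base u) := fun y hy => by
  obtain ⟨y', hy', rfl⟩ := Flat.generalizingMap g hy
  rw [hu y' hy']

/-- The induced map on units of stalks. -/
noncomputable abbrev smU (u : X') : (X.presheaf.stalk (g.base u))ˣ →* (X'.presheaf.stalk u)ˣ :=
  Units.map (g.stalkMap u).hom.toMonoidHom

theorem ordAt_map [IsLocallyNoetherian X] (hd : Fact X) (hd' : Fact X') (v u : X') (hs : u ⤳ v) (hu : IsMax u)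
    (z : (X.presheaf.stalk (g.base u))ˣ) : ordAt v u (smU g u z) = ordAt (g.base v) (g.base u) z := by
  haveI : IsLocallyNoetherian X' := LocallyOfFiniteType.isLocallyNoetherian g
  by_cases hv : ringKrullDim (X'.presheaf.stalk v) = 1
  · have hv' : ringKrullDim (X.presheaf.stalk (g.base v)) = 1 :=
      (EtStalk.ringKrullDim_stalk g v).symm.trans hv
    haveI := (hd' v).1
    haveI := (hd (g.base v)).1
    haveI := isDVR hd hv'
    haveI := isDVR hd' hv
    have hu' := isMax_map g hu
    have h := hs.map g.continuous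
    obtain ⟨n, π, P, a, hπ, hP, rfl⟩ := exists_rep hd h hu' hv' z
    rw [ordAt_eq hd h hu' hv' ⟨π, P, a, hπ, hP, rfl⟩]
    have hsp : ∀ x, sp hs ((g.stalkMap v).hom x) = (g.stalkMap u).hom (sp h x) := fun x =>
      (Scheme.Hom.stalkSpecializes_stalkMap_apply g u v hs x).symm
    refine ordAt_eq hd' hs hu hv ⟨(g.stalkMap v).hom π, smU g u P, Units.map (g.stalkMap v).hom.toMonoidHom a, ?_, ?_, ?_⟩
    · rw [IsDiscreteValuationRing.irreducible_iff_uniformizer, ← MorLib.WT.map_maximalIdeal_stalkMap g v]
      have e := (IsDiscreteValuationRing.irreducible_iff_uniformizer π).1 hπ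
      refine (congrArg (Ideal.map (g.stalkMap v).hom) e).trans ?_
      rw [Ideal.map_span, Set.image_singleton]
    · show _ = (g.stalkMap u).hom (P : X.presheaf.stalk (g.base u))
      rw [hsp, hP]
    · rw [map_mul, map_zpow]
      refine congrArg (· * _) (Units.ext ?_)
      exact (hsp _).symm
  · rw [ordAt_eq_zero fun h' => hv h'.2.2, ordAt_eq_zero fun h' => hv ((EtStalk.ringKrullDim_stalk g v).trans h'.2.2)]

/-- Regular schemes are locally factorial. -/
theorem fact_of_regular (hreg : ∀ x : X, IsRegularLocalRing (X.presheaf.stalk x)) : Fact X := fun v => by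
  haveI := hreg v
  exact RegUFD.ufd (X.presheaf.stalk v)

include g in
theorem fact_of_regular_etale [IsLocallyNoetherian X]
    (hreg : ∀ x : X, IsRegularLocalRing (X.presheaf.stalk x)) : Fact X' :=
  fact_of_regular fun v => (EtStalk.regular_stalk_iff g v).2 (hreg _)

end Groth.Agent.DixBrauer.DivSeq
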