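import Groth.Agent.DixBrauer.DivSeq.Etale
import Groth.Agent.DixBrauer.GenericPoint

/-!
Values at the maximal points of the sections of `f_* G_m` for a flat preimmersion `f`.
-/

universe u

set_option linter.style.haveILetI false
set_option backward.isDefEq.respectTransparency.types false

open CategoryTheory CategoryTheory.Limits AlgebraicGeometry Opposite

namespace Groth.Agent.DixBrauer.DivSeq

open NormGm

theorem stalkMap_congr_family {P U : Scheme.{u}} {a b : P ⟶ U} (e : a = b) (p : P)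
    (zf : ∀ q : U, (U.presheaf.stalk q)ˣ) :
    (a.stalkMap p).hom (zf (a.base p) : U.presheaf.stalk (a.base p)) =
      (b.stalkMap p).hom (zf (b.base p) : U.presheaf.stalk (b.base p)) := by
  subst e; rfl

theorem stalkMap_comp_family {P Q U : Scheme.{u}} (a : P ⟶ Q) (b : Q ⟶ U) (p : P)
    (zf : ∀ q : U, (U.presheaf.stalk q)ˣ) :
    ((a ≫ b).stalkMap p).hom (zf ((a ≫ b).base p) : U.presheaf.stalk ((a ≫ b).base p)) =
      (a.stalkMap p).hom ((b.stalkMap (a.base p)).hom (zf (b.base (a.base p)) : U.presheaf.stalk (b.base (a.base p)))) := by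
  rw [Scheme.Hom.stalkMap_comp]
  rfl

variable {T X : Scheme.{u}} (f : T ⟶ X)

/-- The values of a section. -/
def IsEv (U : X.Etale) (t : Γ(((EtCoh.bc f).obj U).left, ⊤)ˣ)
    (zf : ∀ q : U.left, (U.left.presheaf.stalk q)ˣ) : Prop :=
  (∀ p, ((pr f U).stalkMap p).hom (zf ((pr f U).base p) : U.left.presheaf.stalk _) =
    ((EtCoh.bc f).obj U).left.presheaf.germ ⊤ p trivial (t : Γ(((EtCoh.bc f).obj U).left, ⊤))) ∧
  ∀ q, q ∉ Set.range (pr f U).base → zf q = 1

variable [IsPreimmersion f] [Flat f]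

theorem bijective_stalkMap_pr (U : X.Etale) (p) : Function.Bijective ((pr f U).stalkMap p).hom :=
  haveI : IsPreimmersion (pr f U) := MorphismProperty.pullback_fst _ _ inferInstance
  haveI : Flat (pr f U) := MorphismProperty.pullback_fst _ _ inferInstance
  H23.FiniteFibreSum.bijective_stalkMap _ p

omit [Flat f] in
theorem injective_pr (U : X.Etale) : Function.Injective (pr f U).base :=
  haveI : IsPreimmersion (pr f U) := MorphismProperty.pullback_fst _ _ inferInstance
  (pr f U).isEmbedding.injective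

theorem existsUnique_ev (U : X.Etale) (t : Γ(((EtCoh.bc f).obj U).left, ⊤)ˣ) :
    ∃! zf, IsEv f U t zf := by
  classical
  let e := fun p => RingEquiv.ofBijective _ (bijective_stalkMap_pr f U p)
  let z0 := fun p => Units.map (e p).symm.toMonoidHom
    (Units.map (((EtCoh.bc f).obj U).left.presheaf.germ ⊤ p trivial).hom.toMonoidHom t)
  have hex : ∀ q : U.left, ∃ z : (U.left.presheaf.stalk q)ˣ,
      (∀ p (h : (pr f U).base p = q), h ▸ z0 p = z) ∧ (q ∉ Set.range (pr f U).base → z = 1) := by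
    intro q
    by_cases hq : q ∈ Set.range (pr f U).base
    · obtain ⟨p, rfl⟩ := hq
      refine ⟨z0 p, fun p' h => ?_, fun h => absurd ⟨p, rfl⟩ h⟩
      obtain rfl := injective_pr f U h
      rfl
    · exact ⟨1, fun p h => absurd ⟨p, h⟩ hq, fun _ => rfl⟩
  choose zf h1 h2 using hex
  refine ⟨zf, ⟨fun p => ?_, h2⟩, fun zf' hz' => ?_⟩
  · rw [← h1 _ p rfl]
    exact (e p).apply_symm_apply _
  · funext q
    by_cases hq : q ∈ Set.range (pr f U).base
    · obtain ⟨p, rfl⟩ := hq
      rw [← h1 _ p rfl]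
      exact Units.ext ((bijective_stalkMap_pr f U p).1 ((hz'.1 p).trans ((e p).apply_symm_apply _).symm))
    · rw [hz'.2 q hq, h2 q hq]

/-- The values. -/
noncomputable def ev (U : X.Etale) (t : Γ(((EtCoh.bc f).obj U).left, ⊤)ˣ) (q : U.left) :
    (U.left.presheaf.stalk q)ˣ :=
  (existsUnique_ev f U t).choose q

theorem isEv_ev (U : X.Etale) (t : Γ(((EtCoh.bc f).obj U).left, ⊤)ˣ) : IsEv f U t (ev f U t) :=
  (existsUnique_ev f U t).choose_spec.1

theorem eq_ev (U : X.Etale) (t : Γ(((EtCoh.bc f).obj U).left, ⊤)ˣ) {zf} (h : IsEv f U t zf) :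
    zf = ev f U t :=
  (existsUnique_ev f U t).choose_spec.2 zf h

theorem ev_mul (U : X.Etale) (t t' : Γ(((EtCoh.bc f).obj U).left, ⊤)ˣ) :
    ev f U (t * t') = ev f U t * ev f U t' := by
  refine (eq_ev f U (t * t') ⟨fun p => ?_, fun q hq => ?_⟩).symm
  · rw [Pi.mul_apply, Units.val_mul, map_mul, (isEv_ev f U t).1, (isEv_ev f U t').1, ← map_mul]
    rfl
  · rw [Pi.mul_apply, (isEv_ev f U t).2 q hq, (isEv_ev f U t').2 q hq, one_mul]

omit [IsPreimmersion f] [Flat f] in
theorem range_pr (U : X.Etale) : Set.range (pr f U).base = U.hom.base ⁻¹' Set.range f.base :=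
  Scheme.Pullback.range_fst _ _

theorem ev_map {U U' : X.Etale} (g : U' ⟶ U) (t : Γ(((EtCoh.bc f).obj U).left, ⊤)ˣ) (q : U'.left) :
    ev f U' (Units.map ((EtCoh.bc f).map g).left.appTop.hom.toMonoidHom t) q =
      Units.map (g.left.stalkMap q).hom.toMonoidHom (ev f U t (g.left.base q)) := by
  refine (congrFun (eq_ev f U' _ (zf := fun q => Units.map (g.left.stalkMap q).hom.toMonoidHom
    (ev f U t (g.left.base q))) ⟨fun p => ?_, fun q hq => ?_⟩) q).symm
  · let b := ((EtCoh.bc f).map g).left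
    have hw : b ≫ pr f U = pr f U' ≫ g.left := (EtCoh.isPullback_bc_map f g).w
    refine (stalkMap_comp_family (pr f U') g.left p (ev f U t)).symm.trans ?_
    refine (stalkMap_congr_family hw.symm p (ev f U t)).trans ((stalkMap_comp_family b (pr f U) p (ev f U t)).trans ?_)
    rw [(isEv_ev f U t).1]
    exact (Scheme.Hom.germ_stalkMap_apply b ⊤ p trivial _).trans rfl
  · have hgq : g.left.base q ∉ Set.range (pr f U).base := by
      rw [range_pr] at hq ⊢
      intro h
      refine hq ?_
      have hw : g.left ≫ U.hom = U'.hom := MorphismProperty.Over.w g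
      show U'.hom.base q ∈ Set.range f.base
      rw [← hw, Scheme.Hom.comp_apply]
      exact h
    exact (congrArg (Units.map (g.left.stalkMap q).hom.toMonoidHom) ((isEv_ev f U t).2 _ hgq)).trans (map_one _)

/-- The values of the image of a global unit. -/
theorem ev_GmPush (U : X.Etale) (s : Γ(U.left, ⊤)ˣ) (q : U.left) (hq : q ∈ Set.range (pr f U).base) :
    (ev f U (Units.map (pr f U).appTop.hom.toMonoidHom s) q : U.left.presheaf.stalk q) =
      U.left.presheaf.germ ⊤ q trivial (s : Γ(U.left, ⊤)) := by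
  obtain ⟨p, rfl⟩ := hq
  refine (bijective_stalkMap_pr f U p).1 (((isEv_ev f U _).1 p).trans ?_)
  exact (Scheme.Hom.germ_stalkMap_apply (pr f U) ⊤ p trivial _).symm

omit [IsPreimmersion f] [Flat f] in
theorem eq_of_isEv (U : X.Etale) {t t' : Γ(((EtCoh.bc f).obj U).left, ⊤)ˣ} {zf zf'}
    (h : IsEv f U t zf) (h' : IsEv f U t' zf') (he : ∀ p, zf ((pr f U).base p) = zf' ((pr f U).base p)) :
    t = t' := by
  refine Units.ext (TopCat.Presheaf.section_ext ((EtCoh.bc f).obj U).left.sheaf _ _ _ fun p _ => ?_)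
  exact (h.1 p).symm.trans ((congrArg (fun z : (U.left.presheaf.stalk ((pr f U).base p))ˣ => ((pr f U).stalkMap p).hom (Units.val z)) (he p)).trans (h'.1 p))

end Groth.Agent.DixBrauer.DivSeq
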