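import Groth.Agent.CdLib.LevelMap

/-!
Families of morphisms of étale sheaves with locally finite support map to coproducts.
-/

universe u

set_option linter.style.haveILetI false
set_option backward.isDefEq.respectTransparency.types false

open CategoryTheory CategoryTheory.Limits AlgebraicGeometry Opposite

namespace Groth.Agent.DixBrauer.DivSeq

open CdLib EtFound

variable {X : Scheme.{u}} {J : Type (u + 1)} (M : J → EtCoh.Ab X) {F : EtCoh.Ab X}

/-- A family of morphisms with locally finite support lands in the coproduct. -/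
theorem exists_lift_coprod (φ : ∀ k, F ⟶ M k)
    (hfin : ∀ (U : X.Etale) [IsAffine U.left] (s : F.obj.obj (op U)), {k | (φ k).hom.app (op U) s ≠ 0}.Finite) :
    ∃ ψ : F ⟶ ∐ M, ∀ k, ψ ≫ CoprodProd.proj M k = φ k := by
  classical
  let c := CoprodProd.toPi M
  let t : F ⟶ ∏ᶜ M := Pi.lift φ
  have key : ∀ (U : X.Etale) [IsAffine U.left] (s : F.obj.obj (op U)),
      ∃ s' : (∐ M : EtCoh.Ab X).obj.obj (op U), t.hom.app (op U) s = c.hom.app (op U) s' := by
    intro U _ s
    let a := fun k => (φ k).hom.app (op U) s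
    let S := (hfin U s).toFinset
    refine ⟨∑ k ∈ S, (Sigma.ι M k).hom.app (op U) (a k), ?_⟩
    let E := sheafToPresheaf X.smallEtaleTopology AddCommGrpCat.{u + 1} ⋙
      (evaluation X.Etaleᵒᵖ AddCommGrpCat.{u + 1}).obj (op U)
    refine Concrete.isLimit_ext _ (isLimitOfPreserves E (productIsProduct M)) _ _ ?_
    rintro ⟨k⟩
    change (Pi.π M k).hom.app (op U) (t.hom.app (op U) s) =
      (Pi.π M k).hom.app (op U) (c.hom.app (op U) _)
    have e1 : (Pi.π M k).hom.app (op U) (t.hom.app (op U) s) = a k :=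
      congrArg (fun f : F ⟶ M k => f.hom.app (op U) s) (Pi.lift_π φ k)
    have e2 : ∀ z, (Pi.π M k).hom.app (op U) (c.hom.app (op U) z) =
        (CoprodProd.proj M k).hom.app (op U) z := fun z =>
      congrArg (fun f : ∐ M ⟶ M k => f.hom.app (op U) z) (CoprodProd.toPi_π M k)
    rw [e1, e2, map_sum]
    rw [Finset.sum_eq_single k]
    · exact (congrArg (fun f : M k ⟶ M k => f.hom.app (op U) (a k)) (CoprodProd.ι_proj_self M k)).symm
    · intro j _ hj
      exact congrArg (fun f : M j ⟶ M k => f.hom.app (op U) (a j)) (CoprodProd.ι_proj_ne M hj)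
    · intro hk
      have h0 : a k = 0 := by
        simpa [S, a] using hk
      simp [h0]
  have h0 : ∀ (Ω : Type u) [Field Ω] [IsSepClosed Ω] (ξ : Spec (CommRingCat.of Ω) ⟶ X)
      (z : (EtCoh.stalk ξ).obj F), (EtCoh.stalk ξ).map (t ≫ cokernel.π c) z = 0 := by
    intro Ω _ _ ξ z
    obtain ⟨U, _, u, s, rfl⟩ := LevelMap.exists_affine_rep F ξ z
    obtain ⟨s', hs'⟩ := key U s
    rw [Functor.map_comp, ConcreteCategory.comp_apply,
      show (EtCoh.stalk ξ).map t ((Scheme.pointSmallEtale ξ).toPresheafFiber U u F.obj s) =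
        (EtCoh.stalk ξ).map c ((Scheme.pointSmallEtale ξ).toPresheafFiber U u (∐ M : EtCoh.Ab X).obj s') from
        ((Scheme.pointSmallEtale ξ).toPresheafFiber_naturality_apply t.hom U u s).trans
          ((congrArg _ hs').trans ((Scheme.pointSmallEtale ξ).toPresheafFiber_naturality_apply c.hom U u s').symm),
      ← ConcreteCategory.comp_apply, ← Functor.map_comp, cokernel.condition, Functor.map_zero]
    rfl
  have hz : t ≫ cokernel.π c = 0 := by
    have : Epi (kernel.ι (t ≫ cokernel.π c)) := (epi_iff_stalks _).2 fun Ω _ _ ξ z => by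
      have hex := (ShortComplex.ab_exact_iff _).1
        ((ShortComplex.exact_of_f_is_kernel (ShortComplex.mk _ _ (kernel.condition (t ≫ cokernel.π c)))
          (kernelIsKernel _)).map (EtCoh.stalk ξ))
      exact hex z (h0 Ω ξ z)
    rw [← cancel_epi (kernel.ι (t ≫ cokernel.π c)), kernel.condition, comp_zero]
  refine ⟨Abelian.monoLift c t hz, fun k => ?_⟩
  rw [← CoprodProd.toPi_π, ← Category.assoc, Abelian.monoLift_comp]
  exact Pi.lift_π φ k

end Groth.Agent.DixBrauer.DivSeq
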