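import Groth.Agent.H23.StalkPrimes
import Mathlib.RingTheory.DiscreteValuationRing.Basic
import Mathlib.RingTheory.Localization.FractionRing
import Mathlib.RingTheory.UniqueFactorizationDomain.Kaplansky

/-!
Orders at points of codimension one of locally factorial schemes.
-/

universe u

set_option linter.style.haveILetI false
set_option backward.isDefEq.respectTransparency.types false

open CategoryTheory AlgebraicGeometry IsLocalRing TopologicalSpace

namespace Groth.Agent.DixBrauer.DivSeq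

/-- All local rings are factorial domains. -/
def Fact (X : Scheme.{u}) : Prop :=
  ∀ v : X, IsDomain (X.presheaf.stalk v) ∧ UniqueFactorizationMonoid (X.presheaf.stalk v)

/-- A point without proper generisation. -/
def IsMax {X : Scheme.{u}} (x : X) : Prop := ∀ y, y ⤳ x → y = x

variable {X : Scheme.{u}}

/-- The specialisation of stalks. -/
noncomputable abbrev sp {u v : X} (h : u ⤳ v) : X.presheaf.stalk v →+* X.presheaf.stalk u :=
  (X.presheaf.stalkSpecializes h).hom

theorem exists_isMax (hd : Fact X) (v : X) : ∃ u : X, u ⤳ v ∧ IsMax u := by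
  haveI := (hd v).1
  obtain ⟨u, hu, he⟩ := H23.StalkPrimes.exists_point (X := X) (x := v) ⊥
  refine ⟨u, hu, fun z hz => (hz.antisymm ?_).eq⟩
  exact (H23.StalkPrimes.primeOf_le_iff (hz.trans hu) hu).1 (he.le.trans bot_le)

theorem primeOf_isMax (hd : Fact X) {u v : X} (h : u ⤳ v) (hu : IsMax u) :
    (CDiv6.primeOf h).asIdeal = ⊥ := by
  haveI := (hd v).1
  obtain ⟨z, hz, he⟩ := H23.StalkPrimes.exists_point (X := X) (x := v) ⊥
  obtain rfl := hu z ((H23.StalkPrimes.primeOf_le_iff h hz).1 (he.le.trans bot_le))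
  exact he

theorem isMax_unique (hd : Fact X) {u u' v : X} (h : u ⤳ v) (h' : u' ⤳ v) (hu : IsMax u)
    (hu' : IsMax u') : u = u' :=
  H23.StalkPrimes.primeOf_inj h h' ((primeOf_isMax hd h hu).trans (primeOf_isMax hd h' hu').symm)

theorem isFractionRing_sp (hd : Fact X) {u v : X} (h : u ⤳ v) (hu : IsMax u) :
    @IsFractionRing (X.presheaf.stalk v) _ (X.presheaf.stalk u) _ (sp h).toAlgebra := by
  haveI := (hd v).1
  letI := (sp h).toAlgebra
  have h1 := H23.StalkPrimes.isLocalization_primeOf h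
  have e : (CDiv6.primeOf h).asIdeal.primeCompl = nonZeroDivisors (X.presheaf.stalk v) := by
    refine Submonoid.ext fun x => ?_
    rw [Ideal.mem_primeCompl_iff, primeOf_isMax hd h hu, Ideal.mem_bot, mem_nonZeroDivisors_iff_ne_zero]
  exact (congrArg (fun S => @IsLocalization _ _ S (X.presheaf.stalk u) _ (sp h).toAlgebra) e).mp h1

theorem sp_injective (hd : Fact X) {u v : X} (h : u ⤳ v) (hu : IsMax u) : Function.Injective (sp h) :=
  letI := (sp h).toAlgebra
  haveI := isFractionRing_sp hd h hu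
  IsFractionRing.injective (X.presheaf.stalk v) (X.presheaf.stalk u)

theorem ringKrullDim_of_prime {w v : X} (h : w ⤳ v) [IsNoetherianRing (X.presheaf.stalk v)]
    [IsDomain (X.presheaf.stalk v)] {p : X.presheaf.stalk v} (hp : Prime p)
    (he : (CDiv6.primeOf h).asIdeal = Ideal.span {p}) : ringKrullDim (X.presheaf.stalk w) = 1 := by
  haveI : (Ideal.span {p}).IsPrime := (Ideal.span_singleton_prime hp.ne_zero).2 hp
  have h1 : (Ideal.span {p}).height = 1 :=
    CDiv6.height_eq_one_of_prime (fun hb => hp.ne_zero (Ideal.span_singleton_eq_bot.1 hb))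
      (Ideal.height_le_one_of_isPrincipal_of_mem_minimalPrimes (Ideal.span {p}) (Ideal.span {p})
        (by rw [Ideal.minimalPrimes_eq_subsingleton_self]; rfl))
  have h2 := CDiv6.height_primeOf h
  rw [he, h1] at h2
  rw [ringKrullDim_stalk_eq_coheight, ← h2]
  rfl

theorem isDVR [IsLocallyNoetherian X] (hd : Fact X) {v : X} [IsDomain (X.presheaf.stalk v)]
    (hv : ringKrullDim (X.presheaf.stalk v) = 1) :
    IsDiscreteValuationRing (X.presheaf.stalk v) := by
  haveI := (hd v).2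
  have hne : ¬ IsField (X.presheaf.stalk v) := fun hf => by
    rw [ringKrullDim_eq_zero_of_isField hf] at hv
    exact zero_ne_one hv
  obtain ⟨p, hpm, hp⟩ := (IsLocalRing.maximalIdeal.isMaximal (X.presheaf.stalk v)).isPrime.exists_mem_prime_of_ne_bot
    fun hb => hne (IsLocalRing.isField_iff_maximalIdeal_eq.2 hb)
  haveI : (Ideal.span {p}).IsPrime := (Ideal.span_singleton_prime hp.ne_zero).2 hp
  have hh : (IsLocalRing.maximalIdeal (X.presheaf.stalk v)).height = 1 := by
    have h1 := IsLocalRing.maximalIdeal_height_eq_ringKrullDim (R := X.presheaf.stalk v)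
    rw [hv] at h1
    exact_mod_cast h1
  have he : IsLocalRing.maximalIdeal (X.presheaf.stalk v) = Ideal.span {p} :=
    (CDiv6.eq_of_le_of_height_one (fun hb => hp.ne_zero (Ideal.span_singleton_eq_bot.1 hb))
      ((Ideal.span_singleton_le_iff_mem _).2 hpm) hh).symm
  have h1 : (IsLocalRing.maximalIdeal (X.presheaf.stalk v)).IsPrincipal ↔
      IsDiscreteValuationRing (X.presheaf.stalk v) :=
    (IsDiscreteValuationRing.TFAE (X.presheaf.stalk v) hne).out 4 0
  exact h1.1 ⟨⟨p, he⟩⟩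

/-- A representation `z = a π^n`. -/
def Rep {u v : X} (h : u ⤳ v) (z : (X.presheaf.stalk u)ˣ) (n : ℤ) : Prop :=
  ∃ (π : X.presheaf.stalk v) (P : (X.presheaf.stalk u)ˣ) (a : (X.presheaf.stalk v)ˣ),
    Irreducible π ∧ sp h π = P ∧ z = Units.map (sp h).toMonoidHom a * P ^ n

theorem isUnit_sp_of_ne_zero (hd : Fact X) {u v : X} (h : u ⤳ v) (hu : IsMax u)
    {g : X.presheaf.stalk v} (hg : g ≠ 0) : IsUnit (sp h g) :=
  letI := (sp h).toAlgebra
  haveI := isFractionRing_sp hd h hu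
  haveI := (hd v).1
  IsLocalization.map_units (X.presheaf.stalk u)
    (⟨g, mem_nonZeroDivisors_iff_ne_zero.2 hg⟩ : nonZeroDivisors (X.presheaf.stalk v))

theorem exists_div (hd : Fact X) {u v : X} (h : u ⤳ v) (hu : IsMax u) (z : (X.presheaf.stalk u)ˣ) :
    ∃ a b : X.presheaf.stalk v, a ≠ 0 ∧ b ≠ 0 ∧ IsRelPrime a b ∧ (z : X.presheaf.stalk u) * sp h b = sp h a := by
  haveI := (hd v).1
  haveI := (hd v).2
  haveI := (hd u).1
  letI := (sp h).toAlgebra
  haveI := isFractionRing_sp hd h hu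
  letI := IsFractionRing.toField (X.presheaf.stalk v) (K := X.presheaf.stalk u)
  obtain ⟨a, b, hab, he⟩ := IsFractionRing.exists_reduced_fraction (A := X.presheaf.stalk v)
    (K := X.presheaf.stalk u) (z : X.presheaf.stalk u)
  have hz : (z : X.presheaf.stalk u) * sp h b = sp h a := by
    rw [← he]
    exact IsLocalization.mk'_spec (X.presheaf.stalk u) a b
  refine ⟨a, b, fun ha => ?_, nonZeroDivisors.coe_ne_zero b, hab, hz⟩
  have hu' : IsUnit (sp h a) := hz ▸ z.isUnit.mul (isUnit_sp_of_ne_zero hd h hu (nonZeroDivisors.coe_ne_zero b))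
  rw [ha, map_zero] at hu'
  exact not_isUnit_zero hu'

variable [IsLocallyNoetherian X]

theorem exists_rep (hd : Fact X) {u v : X} (h : u ⤳ v) (hu : IsMax u)
    (hv : ringKrullDim (X.presheaf.stalk v) = 1) (z : (X.presheaf.stalk u)ˣ) : ∃ n, Rep h z n := by
  haveI := (hd v).1
  haveI := isDVR hd hv
  obtain ⟨π, hπ⟩ := IsDiscreteValuationRing.exists_irreducible (X.presheaf.stalk v)
  obtain ⟨a, b, ha, hb, -, hab⟩ := exists_div hd h hu z
  obtain ⟨i, c, rfl⟩ := IsDiscreteValuationRing.eq_unit_mul_pow_irreducible ha hπ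
  obtain ⟨j, d, rfl⟩ := IsDiscreteValuationRing.eq_unit_mul_pow_irreducible hb hπ
  let P := (isUnit_sp_of_ne_zero hd h hu hπ.ne_zero).unit
  have hP : sp h π = P := rfl
  let f := Units.map (sp h).toMonoidHom
  refine ⟨(i : ℤ) - j, π, P, c * d⁻¹, hπ, hP, ?_⟩
  have he : z * (f d * P ^ j) = f c * P ^ i := Units.ext (by
    rw [map_mul, map_pow, map_mul, map_pow, hP] at hab
    simpa [f] using hab)
  rw [eq_mul_inv_of_mul_eq he, map_mul, map_inv, zpow_sub, zpow_natCast, zpow_natCast, mul_inv]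
  exact mul_mul_mul_comm _ _ _ _

theorem rep_unique (hd : Fact X) {u v : X} (h : u ⤳ v) (hu : IsMax u)
    (hv : ringKrullDim (X.presheaf.stalk v) = 1) {z : (X.presheaf.stalk u)ˣ} {m n : ℤ}
    (hm : Rep h z m) (hn : Rep h z n) : m = n := by
  haveI := (hd v).1
  haveI := isDVR hd hv
  obtain ⟨π, P, a, hπ, hP, rfl⟩ := hm
  obtain ⟨π', P', b, hπ', hP', hz⟩ := hn
  obtain ⟨c, rfl⟩ := IsDiscreteValuationRing.associated_of_irreducible (X.presheaf.stalk v) hπ hπ'
  obtain rfl : P' = P * Units.map (sp h).toMonoidHom c := Units.ext (by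
    rw [← hP', map_mul, hP]
    rfl)
  have h0 : ∀ (k : ℕ) (e : (X.presheaf.stalk v)ˣ), Units.map (sp h).toMonoidHom e = P ^ k → k = 0 := by
    intro k e he
    by_contra hk
    refine hπ.not_isUnit (isUnit_pow_iff hk |>.1 ?_)
    rw [sp_injective hd h hu (show sp h (π ^ k) = sp h e by
      rw [map_pow, hP, ← Units.val_pow_eq_pow_val, ← he]; rfl)]
    exact e.isUnit
  rw [mul_zpow, ← map_zpow, mul_comm (P ^ n), ← mul_assoc, ← map_mul] at hz
  have h1 : P ^ (m - n) = Units.map (sp h).toMonoidHom (b * c ^ n * a⁻¹) := by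
    rw [zpow_sub, map_mul _ (b * c ^ n), map_inv, mul_inv_eq_iff_eq_mul, mul_right_comm, ← hz, mul_comm,
      inv_mul_cancel_left]
  rcases Int.eq_nat_or_neg (m - n) with ⟨k, hk | hk⟩
  · rw [hk, zpow_natCast] at h1
    have := h0 k _ h1.symm
    omega
  · rw [hk, zpow_neg, zpow_natCast, inv_eq_iff_eq_inv, ← map_inv] at h1
    have := h0 k _ h1.symm
    omega

open scoped Classical in
/-- The order at `v` of a unit of the stalk at `u` (zero if undefined). -/
noncomputable def ordAt (v u : X) (z : (X.presheaf.stalk u)ˣ) : ℤ :=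
  if h : ∃ (hs : u ⤳ v) (n : ℤ), IsMax u ∧ ringKrullDim (X.presheaf.stalk v) = 1 ∧ Rep hs z n then
    h.snd.choose else 0

theorem ordAt_eq (hd : Fact X) {u v : X} (h : u ⤳ v) (hu : IsMax u)
    (hv : ringKrullDim (X.presheaf.stalk v) = 1) {z : (X.presheaf.stalk u)ˣ} {n : ℤ} (hn : Rep h z n) :
    ordAt v u z = n := by
  have hex : ∃ (hs : u ⤳ v) (n : ℤ), IsMax u ∧ ringKrullDim (X.presheaf.stalk v) = 1 ∧ Rep hs z n :=
    ⟨h, n, hu, hv, hn⟩
  rw [ordAt, dif_pos hex]
  exact rep_unique hd h hu hv hex.snd.choose_spec.2.2 hn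

omit [IsLocallyNoetherian X] in
theorem ordAt_eq_zero {u v : X} {z : (X.presheaf.stalk u)ˣ}
    (h : ¬(u ⤳ v ∧ IsMax u ∧ ringKrullDim (X.presheaf.stalk v) = 1)) : ordAt v u z = 0 :=
  dif_neg fun ⟨hs, _, h1, h2, _⟩ => h ⟨hs, h1, h2⟩

omit [IsLocallyNoetherian X] in
theorem mul_aux {G : Type*} [CommMonoid G] (A B C M N : G) : A * M * (B * (N * C)) = A * (B * C) * (M * N) := by
  ac_rfl

theorem ordAt_mul (hd : Fact X) (v u : X) (z z' : (X.presheaf.stalk u)ˣ) :
    ordAt v u (z * z') = ordAt v u z + ordAt v u z' := by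
  by_cases hh : u ⤳ v ∧ IsMax u ∧ ringKrullDim (X.presheaf.stalk v) = 1
  · obtain ⟨h, hu, hv⟩ := hh
    haveI := (hd v).1
    haveI := isDVR hd hv
    obtain ⟨m, π, P, a, hπ, hP, rfl⟩ := exists_rep hd h hu hv z
    obtain ⟨n, π', P', b, hπ', hP', rfl⟩ := exists_rep hd h hu hv z'
    rw [ordAt_eq hd h hu hv ⟨π, P, a, hπ, hP, rfl⟩, ordAt_eq hd h hu hv ⟨π', P', b, hπ', hP', rfl⟩]
    obtain ⟨c, rfl⟩ := IsDiscreteValuationRing.associated_of_irreducible (X.presheaf.stalk v) hπ hπ'
    refine ordAt_eq hd h hu hv ⟨π, P, a * (b * c ^ n), hπ, hP, ?_⟩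
    obtain rfl : P' = P * Units.map (sp h).toMonoidHom c := Units.ext (by
      rw [← hP', map_mul, hP]
      rfl)
    rw [map_mul, map_mul, map_zpow, mul_zpow, zpow_add]
    exact mul_aux _ _ _ _ _
  · simp [ordAt_eq_zero hh]

theorem ordAt_sp_unit (hd : Fact X) {u v : X} (h : u ⤳ v) (a : (X.presheaf.stalk v)ˣ) :
    ordAt v u (Units.map (sp h).toMonoidHom a) = 0 := by
  by_cases hh : IsMax u ∧ ringKrullDim (X.presheaf.stalk v) = 1
  · haveI := (hd v).1
    haveI := isDVR hd hh.2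
    obtain ⟨π, hπ⟩ := IsDiscreteValuationRing.exists_irreducible (X.presheaf.stalk v)
    exact ordAt_eq hd h hh.1 hh.2 ⟨π, (isUnit_sp_of_ne_zero hd h hh.1 hπ.ne_zero).unit, a, hπ, rfl,
      by rw [zpow_zero, mul_one]⟩
  · exact ordAt_eq_zero fun h' => hh h'.2

theorem ordAt_sp_pow (hd : Fact X) {u v : X} (h : u ⤳ v) (hu : IsMax u)
    (hv : ringKrullDim (X.presheaf.stalk v) = 1) {π : X.presheaf.stalk v} (hπ : Irreducible π)
    {P : (X.presheaf.stalk u)ˣ} (hP : sp h π = P) (n : ℤ) : ordAt v u (P ^ n) = n :=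
  ordAt_eq hd h hu hv ⟨π, P, 1, hπ, hP, by rw [map_one, one_mul]⟩

theorem ordAt_sp_pos (hd : Fact X) {u v : X} (h : u ⤳ v) (hu : IsMax u)
    (hv : ringKrullDim (X.presheaf.stalk v) = 1) {g : X.presheaf.stalk v} (hg : g ≠ 0)
    (hg' : ¬IsUnit g) {z : (X.presheaf.stalk u)ˣ} (hz : sp h g = z) : ordAt v u z ≠ 0 := by
  haveI := (hd v).1
  haveI := isDVR hd hv
  obtain ⟨π, hπ⟩ := IsDiscreteValuationRing.exists_irreducible (X.presheaf.stalk v)
  obtain ⟨i, c, rfl⟩ := IsDiscreteValuationRing.eq_unit_mul_pow_irreducible hg hπ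
  have hi : i ≠ 0 := by rintro rfl; exact hg' (by simp)
  rw [ordAt_eq hd h hu hv (n := i)
    ⟨π, (isUnit_sp_of_ne_zero hd h hu hπ.ne_zero).unit, c, hπ, rfl, Units.ext (by
      rw [← hz, map_mul, map_pow, zpow_natCast, Units.val_mul, Units.val_pow_eq_pow_val]
      rfl)⟩]
  exact_mod_cast hi

/-- A unit without zeros and poles is a unit of the local ring. -/
theorem exists_unit_of_ordAt (hd : Fact X) {u v : X} (h : u ⤳ v) (hu : IsMax u)
    (z : (X.presheaf.stalk u)ˣ)
    (hz : ∀ w : X, u ⤳ w → w ⤳ v → ringKrullDim (X.presheaf.stalk w) = 1 → ordAt w u z = 0) :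
    ∃ a : (X.presheaf.stalk v)ˣ, Units.map (sp h).toMonoidHom a = z := by
  haveI := (hd v).1
  haveI := (hd v).2
  obtain ⟨a, b, ha, hb, hab, he⟩ := exists_div hd h hu z
  have key : ∀ (g g' : X.presheaf.stalk v), IsRelPrime g g' → g ≠ 0 → g' ≠ 0 →
      ∀ z' : (X.presheaf.stalk u)ˣ, (z' : X.presheaf.stalk u) * sp h g' = sp h g →
        (∀ w : X, u ⤳ w → w ⤳ v → ringKrullDim (X.presheaf.stalk w) = 1 → ordAt w u z' = 0) → IsUnit g := by
    intro g g' hgg hg hg' z' hz' hord
    by_contra hgu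
    obtain ⟨p, hp, hpg⟩ := WfDvdMonoid.exists_irreducible_factor hgu hg
    have hp' : Prime p := UniqueFactorizationMonoid.irreducible_iff_prime.1 hp
    haveI : (Ideal.span {p}).IsPrime := (Ideal.span_singleton_prime hp'.ne_zero).2 hp'
    obtain ⟨w, hw, hwe⟩ := H23.StalkPrimes.exists_point (X := X) (x := v) (Ideal.span {p})
    have hw1 := ringKrullDim_of_prime hw hp' hwe
    have huw : u ⤳ w := (H23.StalkPrimes.primeOf_le_iff hw h).1 ((primeOf_isMax hd h hu).le.trans bot_le)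
    have hsp : ∀ x, sp huw (sp hw x) = sp h x := fun x =>
      (ConcreteCategory.comp_apply _ _ x).symm.trans (by rw [TopCat.Presheaf.stalkSpecializes_comp])
    have hgn : ¬IsUnit (sp hw g) := by
      rw [← CDiv6.mem_primeOf hw, hwe]
      exact Ideal.mem_span_singleton.2 hpg
    have hgu' : IsUnit (sp hw g') := by
      rw [← not_not (a := IsUnit (sp hw g')), ← CDiv6.mem_primeOf hw, hwe, Ideal.mem_span_singleton]
      exact fun hd' => hp.not_isUnit (hgg hpg hd')
    have hg0 : sp hw g ≠ 0 := fun h0 => hg (sp_injective hd h hu (by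
      rw [← hsp, h0, map_zero, map_zero]))
    have hgU : IsUnit (sp h g) := isUnit_sp_of_ne_zero hd h hu hg
    refine ordAt_sp_pos hd huw hu hw1 hg0 hgn (z := hgU.unit) (hsp g) ?_
    have e : hgU.unit = z' * Units.map (sp huw).toMonoidHom hgu'.unit := Units.ext (by
      show sp h g = _ * sp huw (sp hw g')
      rw [hsp, hz'])
    rw [e, ordAt_mul hd, hord w huw hw hw1, ordAt_sp_unit hd huw, add_zero]
  have hau : IsUnit a := key a b hab ha hb z he hz
  have hbu : IsUnit b := key b a hab.symm hb ha z⁻¹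
    (by rw [← he, ← mul_assoc, Units.inv_mul, one_mul])
    (fun w h1 h2 h3 => by
      have hm := ordAt_mul hd w u z z⁻¹
      rw [mul_inv_cancel, ← map_one (Units.map (sp h1).toMonoidHom), ordAt_sp_unit hd h1, hz w h1 h2 h3] at hm
      omega)
  refine ⟨hau.unit * hbu.unit⁻¹, ?_⟩
  rw [map_mul, map_inv, mul_inv_eq_iff_eq_mul]
  exact Units.ext he.symm

end Groth.Agent.DixBrauer.DivSeq
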