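import Groth.Agent.DixBrauer.FieldH1

/-!
Sections of the constant sheaf `ℤ` over étale schemes over a field are functions on points.
-/

universe u

set_option linter.style.haveILetI false
set_option backward.isDefEq.respectTransparency.types false

open CategoryTheory CategoryTheory.Limits AlgebraicGeometry Opposite

namespace Groth.Agent.DixBrauer.DivSeq

open GalCover FieldH1

variable {k : Type u} [Field k]

/-- The section of a function. -/
noncomputable def toSec (U : (Spec (CommRingCat.of k)).Etale) (n : U.left → ℤ) :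
    EtCoh.sect (EtCoh.const (Spec (CommRingCat.of k)) ℤ) U :=
  (existsUnique_points U (EtCoh.const _ ℤ) fun w => cst (ptObj U w) (ULift.up (n w))).choose

theorem rs_toSec (U : (Spec (CommRingCat.of k)).Etale) (n : U.left → ℤ) (w : U.left) :
    rs (EtCoh.const _ ℤ) (ptι U w) (toSec U n) = cst (ptObj U w) (ULift.up (n w)) :=
  (existsUnique_points U (EtCoh.const _ ℤ) fun w => cst (ptObj U w) (ULift.up (n w))).choose_spec.1 w

theorem eq_toSec (U : (Spec (CommRingCat.of k)).Etale) (n : U.left → ℤ)
    (t : EtCoh.sect (EtCoh.const (Spec (CommRingCat.of k)) ℤ) U)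
    (h : ∀ w, rs (EtCoh.const _ ℤ) (ptι U w) t = cst (ptObj U w) (ULift.up (n w))) : t = toSec U n :=
  (existsUnique_points U (EtCoh.const _ ℤ) fun w => cst (ptObj U w) (ULift.up (n w))).choose_spec.2 t h

theorem toSec_add (U : (Spec (CommRingCat.of k)).Etale) (n m : U.left → ℤ) :
    toSec U (n + m) = toSec U n + toSec U m :=
  (eq_toSec U (n + m) _ fun w => by rw [map_add, rs_toSec, rs_toSec]; exact (map_add _ _ _).symm).symm

theorem toSec_injective (U : (Spec (CommRingCat.of k)).Etale) : Function.Injective (toSec U) := by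
  intro n m h
  funext w
  have h1 := rs_toSec U n w
  rw [h, rs_toSec] at h1
  have h2 : cst (ptObj U w) (ULift.up (n w) - ULift.up (m w)) = 0 := by
    rw [show cst (ptObj U w) (ULift.up (n w) - ULift.up (m w)) = cst (ptObj U w) (ULift.up (n w)) -
      cst (ptObj U w) (ULift.up (m w)) from map_sub _ _ _, h1, sub_self]
  exact congrArg ULift.down (sub_eq_zero.1
    (eq_zero_of_cst_eq_zero _ (IsLocalRing.closedPoint (U.left.residueField w)) _ h2))

theorem toSec_surjective (U : (Spec (CommRingCat.of k)).Etale) : Function.Surjective (toSec U) := by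
  intro t
  have key : ∀ w : U.left, ∃ n : ℤ, rs (EtCoh.const _ ℤ) (ptι U w) t = cst (ptObj U w) (ULift.up n) := by
    intro w
    obtain ⟨W, g, x, m, -, hm⟩ := exists_cst (ptObj U w) (rs (EtCoh.const _ ℤ) (ptι U w) t)
      (IsLocalRing.closedPoint (U.left.residueField w))
    refine ⟨m.down, ext_of_local _ _ _ _ fun y => ⟨W, g, x, ?_, by rw [hm, rs_cst]⟩⟩
    haveI : Subsingleton (ptObj U w).left :=
      inferInstanceAs (Subsingleton (PrimeSpectrum (U.left.residueField w)))
    exact Subsingleton.elim _ _
  choose n hn using key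
  exact ⟨n, (eq_toSec U n t hn).symm⟩

theorem rs_toSec_map {U U' : (Spec (CommRingCat.of k)).Etale} (g : U' ⟶ U) (n : U.left → ℤ) :
    rs (EtCoh.const _ ℤ) g (toSec U n) = toSec U' fun w => n (g.left.base w) := by
  refine eq_toSec U' _ _ fun w => ?_
  have hw : g.left ≫ U.hom = U'.hom := MorphismProperty.Over.w g
  let h : ptObj U' w ⟶ ptObj U (g.left.base w) :=
    MorphismProperty.Over.homMk (Spec.map (g.left.residueFieldMap w)) (by
      show Spec.map (g.left.residueFieldMap w) ≫ U.left.fromSpecResidueField (g.left.base w) ≫ U.hom =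
        U'.left.fromSpecResidueField w ≫ U'.hom
      rw [← Category.assoc, Scheme.Hom.SpecMap_residueFieldMap_fromSpecResidueField, Category.assoc, hw])
  have e : ptι U' w ≫ g = h ≫ ptι U (g.left.base w) := MorphismProperty.Over.Hom.ext
    (Scheme.Hom.SpecMap_residueFieldMap_fromSpecResidueField g.left w).symm
  rw [rs_comp, e, ← rs_comp, rs_toSec, rs_cst]

end Groth.Agent.DixBrauer.DivSeq
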