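import Groth.Agent.DixBrauer.DivSeq.Ev
import Groth.Agent.DixBrauer.DivSeq.Values
import Groth.Agent.CdLib.LevelMap

/-!
The divisor morphism `f_* G_m ⟶ ⊕ (i_x)_* ℤ`.
-/

universe u

set_option linter.style.haveILetI false
set_option backward.isDefEq.respectTransparency.types false

open CategoryTheory CategoryTheory.Limits AlgebraicGeometry Opposite

namespace Groth.Agent.DixBrauer.DivSeq

open CdLib NormGm GalCover

variable {X : Scheme.{u}}

/-- All étale schemes over `X` are locally factorial. -/
def EFact (X : Scheme.{u}) : Prop := ∀ U : X.Etale, Fact U.left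

/-- The points of codimension one. -/
abbrev P1 (X : Scheme.{u}) : Type (u + 1) := ULift.{u + 1} {x : X // ringKrullDim (X.presheaf.stalk x) = 1}

/-- The sheaves `(i_x)_* ℤ`. -/
noncomputable abbrev M (k : P1 X) : EtCoh.Ab X :=
  (EtCoh.push (PointPush.ι k.down.1)).obj (EtCoh.const (Spec (X.residueField k.down.1)) ℤ)

/-- The maximal generisation. -/
noncomputable def gen {U : Scheme.{u}} (hd : Fact U) (v : U) : U := (exists_isMax hd v).choose

theorem gen_specializes {U : Scheme.{u}} (hd : Fact U) (v : U) : gen hd v ⤳ v :=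
  (exists_isMax hd v).choose_spec.1

theorem isMax_gen {U : Scheme.{u}} (hd : Fact U) (v : U) : IsMax (gen hd v) :=
  (exists_isMax hd v).choose_spec.2

variable {T : Scheme.{u}} (f : T ⟶ X) [IsPreimmersion f] [Flat f] (hd : EFact X)

/-- The order of a section at a point. -/
noncomputable def nval (U : X.Etale) (t : Γ(((EtCoh.bc f).obj U).left, ⊤)ˣ) (v : U.left) : ℤ :=
  ordAt v (gen (hd U) v) (ev f U t (gen (hd U) v))

theorem nval_eq [IsLocallyNoetherian X] (U : X.Etale) (t : Γ(((EtCoh.bc f).obj U).left, ⊤)ˣ) {u v : U.left}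
    (h : u ⤳ v) (hu : IsMax u) : nval f hd U t v = ordAt v u (ev f U t u) := by
  rw [isMax_unique (hd U) h (gen_specializes (hd U) v) hu (isMax_gen (hd U) v)]
  rfl

variable [IsLocallyNoetherian X]

omit [IsPreimmersion f] [Flat f] in
/-- Étale schemes over `X` are locally Noetherian. -/
theorem isLocallyNoetherian_left (U : X.Etale) : IsLocallyNoetherian U.left := by
  let g : U.left ⟶ X := U.hom
  haveI : AlgebraicGeometry.Etale g := U.prop
  exact LocallyOfFiniteType.isLocallyNoetherian g

theorem nval_mul (U : X.Etale) (t t' : Γ(((EtCoh.bc f).obj U).left, ⊤)ˣ) (v : U.left) :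
    nval f hd U (t * t') v = nval f hd U t v + nval f hd U t' v := by
  haveI := isLocallyNoetherian_left U
  unfold nval
  rw [ev_mul, Pi.mul_apply, ordAt_mul (hd U)]

theorem nval_map {U U' : X.Etale} (g : U' ⟶ U) (t : Γ(((EtCoh.bc f).obj U).left, ⊤)ˣ) (v : U'.left) :
    nval f hd U' (Units.map ((EtCoh.bc f).map g).left.appTop.hom.toMonoidHom t) v =
      nval f hd U t (g.left.base v) := by
  haveI : AlgebraicGeometry.Etale g.left := EtFound.etale_left g
  haveI := isLocallyNoetherian_left U
  have h := gen_specializes (hd U') v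
  have hu := isMax_gen (hd U') v
  show ordAt v (gen (hd U') v) _ = _
  rw [nval_eq f hd U t (h.map g.left.continuous) (isMax_map g.left hu), ev_map]
  exact ordAt_map g.left (hd U) (hd U') v _ h hu _

/-- The section of the orders over `x`. -/
noncomputable def ordSec (k : P1 X) (U : X.Etale) :
    EtCoh.sect ((EtCoh.push f).obj (EtCoh.Gm T)) U →+ EtCoh.sect (M k) U :=
  AddMonoidHom.mk'
    (fun t => toSec (k := X.residueField k.down.1) ((EtCoh.bc (PointPush.ι k.down.1)).obj U)
      fun w => nval f hd U (un (U := (EtCoh.bc f).obj U) t) ((pr (PointPush.ι k.down.1) U).base w))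
    fun t t' => by
      refine Eq.trans ?_ (toSec_add _ _ _)
      exact congrArg (toSec _) (funext fun w => nval_mul f hd U _ _ _)

theorem ordSec_rs (k : P1 X) {U U' : X.Etale} (g : U' ⟶ U)
    (t : EtCoh.sect ((EtCoh.push f).obj (EtCoh.Gm T)) U) :
    rs (M k) g (ordSec f hd k U t) = ordSec f hd k U' (rs ((EtCoh.push f).obj (EtCoh.Gm T)) g t) := by
  show rs (EtCoh.const (Spec (CommRingCat.of (X.residueField k.down.1))) ℤ) ((EtCoh.bc (PointPush.ι k.down.1)).map g)
    (toSec _ _) = _
  rw [rs_toSec_map]
  refine congrArg (toSec _) (funext fun w => ?_)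
  have hw : ((EtCoh.bc (PointPush.ι k.down.1)).map g).left ≫ pr (PointPush.ι k.down.1) U =
      pr (PointPush.ι k.down.1) U' ≫ g.left := (EtCoh.isPullback_bc_map (PointPush.ι k.down.1) g).w
  refine Eq.trans ?_ (nval_map f hd g _ _).symm
  refine congrArg (nval f hd U _) ?_
  exact (Scheme.Hom.comp_apply _ _ w).symm.trans ((congrArg (fun m => m.base w) hw).trans (Scheme.Hom.comp_apply _ _ w))

/-- The order morphism at `x`. -/
noncomputable def ordHom (k : P1 X) : (EtCoh.push f).obj (EtCoh.Gm T) ⟶ M k :=
  ⟨{ app := fun U => AddCommGrpCat.ofHom (ordSec f hd k U.unop)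
     naturality := fun U U' g => by
       refine AddCommGrpCat.hom_ext (AddMonoidHom.ext fun t => ?_)
       exact (ordSec_rs f hd k g.unop t).symm }⟩

theorem finite_ordHom (U : X.Etale) [IsAffine U.left] (t : EtCoh.sect ((EtCoh.push f).obj (EtCoh.Gm T)) U) :
    {k : P1 X | (ordHom f hd k).hom.app (op U) t ≠ 0}.Finite := by
  haveI := isLocallyNoetherian_left U
  have hfin := finite_support (hd U) (isAffineOpen_top U.left) (ev f U (un (U := (EtCoh.bc f).obj U) t))
  refine ((hfin.image U.hom.base).preimage (f := fun k : P1 X => k.down.1) ?_).subset fun k hk => ?_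
  · intro a _ b _ hab
    exact ULift.ext _ _ (Subtype.ext hab)
  · have hne : ∃ w, nval f hd U (un (U := (EtCoh.bc f).obj U) t) ((pr (PointPush.ι k.down.1) U).base w) ≠ 0 := by
      by_contra hall
      push Not at hall
      refine hk ?_
      show ordSec f hd k U t = 0
      refine ((congrArg (toSec _) (funext hall)).trans ?_)
      exact (eq_toSec _ _ 0 fun w => by rw [map_zero]; exact (map_zero _).symm).symm
    obtain ⟨w, hw⟩ := hne
    refine ⟨(pr (PointPush.ι k.down.1) U).base w, ⟨trivial, _, hw⟩, ?_⟩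
    have h1 : (pr (PointPush.ι k.down.1) U).base w ∈ U.hom.base ⁻¹' Set.range (PointPush.ι k.down.1).base :=
      (range_pr (PointPush.ι k.down.1) U).le ⟨w, rfl⟩
    rw [PointPush.range_ι] at h1
    exact h1

end Groth.Agent.DixBrauer.DivSeq
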