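import Groth.Agent.DixBrauer.DivSeq.OrdMap
import Groth.Agent.DixBrauer.DivSeq.Lift
import Groth.Agent.DixBrauer.CurveArtin
import Groth.Agent.SiteBase.AbSecExact

/-!
The sequence `0 → G_m → ⊕ j_* G_m → ⊕ (i_x)_* ℤ → 0` of a locally factorial scheme.
-/

universe u

set_option linter.style.haveILetI false
set_option backward.isDefEq.respectTransparency.types false

open CategoryTheory CategoryTheory.Limits AlgebraicGeometry Opposite

namespace Groth.Agent.DixBrauer.DivSeq

open CdLib NormGm GalCover EtFound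

variable {X : Scheme.{u}} {I : Type (u + 1)} [Fintype I] (η : I → X)

/-- The maximal points are the `η i`. -/
structure MaxFamily : Prop where
  inj : Function.Injective η
  isMax : ∀ i, IsMax (η i)
  cover : ∀ x : X, IsMax x → ∃ i, η i = x

variable {η}

attribute [local instance] GrpSchLib.flat_fromSpecStalk

variable (η)

/-- The summands `j_* G_m`. -/
noncomputable abbrev Jm (i : I) : EtCoh.Ab X :=
  (EtCoh.push (X.fromSpecStalk (η i))).obj (EtCoh.Gm (Spec (X.presheaf.stalk (η i))))

/-- The map from `G_m`. -/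
noncomputable def alpha : EtCoh.Gm X ⟶ ∐ Jm η :=
  ∑ i, EtLim.GmPush (X.fromSpecStalk (η i)) ≫ Sigma.ι (Jm η) i

theorem alpha_proj (i : I) : alpha η ≫ CoprodProd.proj (Jm η) i = EtLim.GmPush (X.fromSpecStalk (η i)) := by
  classical
  rw [alpha, Preadditive.sum_comp, Finset.sum_eq_single i]
  · rw [Category.assoc, CoprodProd.ι_proj_self]
    exact Category.comp_id _
  · intro j _ hj
    rw [Category.assoc, CoprodProd.ι_proj_ne (Jm η) hj, comp_zero]
  · exact fun h => absurd (Finset.mem_univ i) h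

variable [IsLocallyNoetherian X] (hd : EFact X)

/-- The divisor map. -/
noncomputable def beta : ∐ Jm η ⟶ ∐ M (X := X) :=
  Sigma.desc fun i => (exists_lift_coprod M (ordHom (X.fromSpecStalk (η i)) hd)
    fun U _ s => finite_ordHom (X.fromSpecStalk (η i)) hd U s).choose

theorem ι_beta_proj (i : I) (k : P1 X) :
    Sigma.ι (Jm η) i ≫ beta η hd ≫ CoprodProd.proj M k = ordHom (X.fromSpecStalk (η i)) hd k := by
  rw [beta, colimit.ι_desc_assoc]
  exact (exists_lift_coprod M (ordHom (X.fromSpecStalk (η i)) hd)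
    fun U _ s => finite_ordHom (X.fromSpecStalk (η i)) hd U s).choose_spec k

theorem beta_proj (k : P1 X) : beta η hd ≫ CoprodProd.proj M k =
    ∑ i, CoprodProd.proj (Jm η) i ≫ ordHom (X.fromSpecStalk (η i)) hd k := by
  classical
  refine Sigma.hom_ext _ _ fun i => ?_
  rw [ι_beta_proj, Preadditive.comp_sum, Finset.sum_eq_single i]
  · rw [← Category.assoc, CoprodProd.ι_proj_self]
    exact (Category.id_comp _).symm
  · intro j _ hj
    rw [← Category.assoc, CoprodProd.ι_proj_ne (Jm η) (Ne.symm hj), zero_comp]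
  · exact fun h => absurd (Finset.mem_univ i) h

omit [IsLocallyNoetherian X] in
theorem sect_ext {J : Type (u + 1)} (N : J → EtCoh.Ab X) (U : X.Etale) (z z' : EtCoh.sect (∐ N) U)
    (h : ∀ k, (CoprodProd.proj N k).hom.app (op U) z = (CoprodProd.proj N k).hom.app (op U) z') : z = z' := by
  haveI : LocallySmall.{u + 1} X.Etale := ⟨fun _ _ => inferInstance⟩
  refine SiteBase.sheaf_app_injective (CoprodProd.toPi N) _ ?_
  let E := sheafToPresheaf X.smallEtaleTopology AddCommGrpCat.{u + 1} ⋙
    (evaluation X.Etaleᵒᵖ AddCommGrpCat.{u + 1}).obj (op U)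
  refine Concrete.isLimit_ext _ (isLimitOfPreserves E (productIsProduct N)) _ _ ?_
  rintro ⟨k⟩
  have e : ∀ y, (Pi.π N k).hom.app (op U) ((CoprodProd.toPi N).hom.app (op U) y) =
      (CoprodProd.proj N k).hom.app (op U) y := fun y =>
    congrArg (fun f : ∐ N ⟶ N k => f.hom.app (op U) y) (CoprodProd.toPi_π N k)
  exact (e z).trans ((h k).trans (e z').symm)

/-- The components of a section. -/
noncomputable def comp (U : X.Etale) (t : EtCoh.sect (∐ Jm η) U) (i : I) :
    Γ(((EtCoh.bc (X.fromSpecStalk (η i))).obj U).left, ⊤)ˣ :=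
  un (U := (EtCoh.bc (X.fromSpecStalk (η i))).obj U) ((CoprodProd.proj (Jm η) i).hom.app (op U) t)

/-- The values of a section at the maximal points. -/
noncomputable def val (U : X.Etale) (t : EtCoh.sect (∐ Jm η) U) (q : U.left) : (U.left.presheaf.stalk q)ˣ :=
  ∏ i, ev (X.fromSpecStalk (η i)) U (comp η U t i) q

variable {η} (hη : MaxFamily η)

include hη in
omit [Fintype I] [IsLocallyNoetherian X] in
theorem mem_range_iff (U : X.Etale) (i : I) (q : U.left) :
    q ∈ Set.range (pr (X.fromSpecStalk (η i)) U).base ↔ U.hom.base q = η i := by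
  have h := range_pr (X.fromSpecStalk (η i)) U
  rw [CurveReduced.range_fromSpecStalk_max (hη.isMax i)] at h
  rw [h]
  exact Iff.rfl

include hη in
omit [IsLocallyNoetherian X] in
theorem val_eq (U : X.Etale) (t : EtCoh.sect (∐ Jm η) U) (i : I) (q : U.left) (hq : U.hom.base q = η i) :
    val η U t q = ev (X.fromSpecStalk (η i)) U (comp η U t i) q := by
  classical
  rw [val, Finset.prod_eq_single i]
  · intro j _ hj
    refine (isEv_ev _ U _).2 q fun h => hj (hη.inj ?_)
    rw [← (mem_range_iff hη U j q).1 h, hq]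
  · exact fun h => absurd (Finset.mem_univ i) h

theorem sum_nval (U : X.Etale) (t : EtCoh.sect (∐ Jm η) U) {u v : U.left} (h : u ⤳ v) (hu : IsMax u) :
    ∑ i, nval (X.fromSpecStalk (η i)) hd U (comp η U t i) v = ordAt v u (val η U t u) := by
  classical
  haveI := isLocallyNoetherian_left U
  rw [val]
  induction (Finset.univ : Finset I) using Finset.induction with
  | empty =>
    have h2 := ordAt_mul (hd U) v u 1 1
    rw [mul_one] at h2
    rw [Finset.sum_empty, Finset.prod_empty]
    omega
  | insert a s ha ih =>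
    rw [Finset.sum_insert ha, Finset.prod_insert ha, ordAt_mul (hd U), ih, nval_eq _ hd U _ h hu]

theorem proj_beta (U : X.Etale) (t : EtCoh.sect (∐ Jm η) U) (k : P1 X) :
    (CoprodProd.proj M k).hom.app (op U) ((beta η hd).hom.app (op U) t) =
      toSec (k := X.residueField k.down.1) ((EtCoh.bc (PointPush.ι k.down.1)).obj U)
        fun w => ∑ i, nval (X.fromSpecStalk (η i)) hd U (comp η U t i) ((pr (PointPush.ι k.down.1) U).base w) := by
  classical
  refine (congrArg (fun φ : ∐ Jm η ⟶ M k => φ.hom.app (op U) t) (beta_proj η hd k)).trans ?_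
  let E : (∐ Jm η ⟶ M k) →+ EtCoh.sect (M k) U :=
    AddMonoidHom.mk' (fun φ => φ.hom.app (op U) t) fun _ _ => rfl
  refine (map_sum E _ Finset.univ).trans ?_
  let W := (EtCoh.bc (PointPush.ι k.down.1)).obj U
  let Fn := AddMonoidHom.mk' (toSec (k := X.residueField k.down.1) W) (toSec_add W)
  refine Eq.trans ?_ ((map_sum Fn (fun i w =>
    nval (X.fromSpecStalk (η i)) hd U (comp η U t i) ((pr (PointPush.ι k.down.1) U).base w)) Finset.univ).symm.trans
      (congrArg Fn (funext fun w => Finset.sum_apply w _ _)))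
  rfl

include hη in
theorem val_alpha (U : X.Etale) (s : EtCoh.sect (EtCoh.Gm X) U) (q : U.left) (hq : IsMax q) :
    (val η U ((alpha η).hom.app (op U) s) q : U.left.presheaf.stalk q) =
      U.left.presheaf.germ ⊤ q trivial (un s : Γ(U.left, ⊤)) := by
  haveI : AlgebraicGeometry.Etale U.hom := U.prop
  obtain ⟨i, hi⟩ := hη.cover _ (isMax_map U.hom hq)
  rw [val_eq hη U _ i q hi.symm]
  have e : (CoprodProd.proj (Jm η) i).hom.app (op U) ((alpha η).hom.app (op U) s) =
      (EtLim.GmPush (X.fromSpecStalk (η i))).hom.app (op U) s :=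
    congrArg (fun φ : EtCoh.Gm X ⟶ Jm η i => φ.hom.app (op U) s) (alpha_proj η i)
  refine Eq.trans ?_ (ev_GmPush (X.fromSpecStalk (η i)) U (un s) q ((mem_range_iff hη U i q).2 hi.symm))
  refine congrArg (fun z => (ev (X.fromSpecStalk (η i)) U z q : U.left.presheaf.stalk q)) ?_
  exact congrArg (fun z => un (U := (EtCoh.bc (X.fromSpecStalk (η i))).obj U) z) e

include hη in
theorem alpha_beta : alpha η ≫ beta η hd = 0 := by
  refine Sheaf.hom_ext (NatTrans.ext (funext fun V => AddCommGrpCat.hom_ext (AddMonoidHom.ext fun s => ?_)))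
  refine sect_ext M V.unop _ 0 fun k => ?_
  refine (proj_beta hd V.unop ((alpha η).hom.app V s) k).trans ?_
  rw [map_zero]
  refine Eq.trans (congrArg (toSec _) (funext fun w => ?_)) ((eq_toSec _ _ 0 fun w => by
    rw [map_zero]; exact (map_zero _).symm).symm : toSec _ (fun _ => (0 : ℤ)) = 0)
  let v := (pr (PointPush.ι k.down.1) V.unop).base w
  have h := gen_specializes (hd V.unop) v
  rw [sum_nval hd V.unop _ h (isMax_gen (hd V.unop) v)]
  let a : (V.unop.left.presheaf.stalk v)ˣ :=
    Units.map (V.unop.left.presheaf.germ ⊤ v trivial).hom.toMonoidHom (un s)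
  haveI := isLocallyNoetherian_left V.unop
  rw [show val η V.unop ((alpha η).hom.app V s) (gen (hd V.unop) v) = Units.map (sp h).toMonoidHom a from
    Units.ext ((val_alpha hη V.unop s _ (isMax_gen (hd V.unop) v)).trans
      (TopCat.Presheaf.germ_stalkSpecializes_apply _ _ _ _).symm)]
  exact ordAt_sp_unit (hd V.unop) h a

include hη hd in
theorem mono_alpha : Mono (alpha η) := by
  haveI : Mono ((sheafToPresheaf _ _).map (alpha η)) := by
    refine (NatTrans.mono_iff_mono_app _).2 fun V => ?_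
    refine (AddCommGrpCat.mono_iff_injective _).2 ((injective_iff_map_eq_zero _).2 fun s hs => ?_)
    refine un_injective V.unop (Units.ext (TopCat.Presheaf.section_ext V.unop.left.sheaf _ _ _ fun v _ => ?_))
    have h := gen_specializes (hd V.unop) v
    refine sp_injective (hd V.unop) h (isMax_gen (hd V.unop) v) ?_
    refine (TopCat.Presheaf.germ_stalkSpecializes_apply _ _ _ _).trans
      (Eq.trans ?_ (TopCat.Presheaf.germ_stalkSpecializes_apply _ _ _ _).symm)
    refine (val_alpha hη V.unop s _ (isMax_gen (hd V.unop) v)).symm.trans ?_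
    refine Eq.trans ?_ (map_one _).symm
    refine congrArg Units.val (Finset.prod_eq_one fun i _ => ?_)
    refine (congrFun (eq_ev (X.fromSpecStalk (η i)) V.unop _ (zf := fun _ => 1) ⟨fun p => ?_, fun _ _ => rfl⟩) _).symm
    rw [Units.val_one, map_one]
    refine (map_one _).symm.trans (congrArg _ ?_)
    show (1 : Γ(((EtCoh.bc (X.fromSpecStalk (η i))).obj V.unop).left, ⊤)) =
      ((comp η V.unop ((alpha η).hom.app V s) i : Γ(((EtCoh.bc (X.fromSpecStalk (η i))).obj V.unop).left, ⊤)ˣ) :
        Γ(((EtCoh.bc (X.fromSpecStalk (η i))).obj V.unop).left, ⊤))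
    have hs' : (alpha η).hom.app V s = 0 := hs
    rw [comp, hs', map_zero]
    rfl
  exact Functor.mono_of_mono_map (sheafToPresheaf _ _) inferInstance

omit [IsLocallyNoetherian X] in
theorem exists_unit_restrict (U : X.Etale) (O : U.left.Opens) (s : Γ(U.left, O)) (hs : IsUnit s) :
    ∃ s' : Γ((restrictEtale U O).left, ⊤)ˣ, ∀ q : (restrictEtale U O).left,
      (restrictEtale U O).left.presheaf.germ ⊤ q trivial (s' : Γ((restrictEtale U O).left, ⊤)) =
        (O.ι.stalkMap q).hom (U.left.presheaf.germ O (O.ι.base q) q.2 s) := by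
  refine ⟨(hs.map (O.ι.appLE O ⊤ (by rw [Scheme.Opens.ι_preimage_self])).hom).unit, fun q => ?_⟩
  rw [Scheme.Hom.germ_stalkMap_apply, IsUnit.unit_spec, Scheme.Hom.appLE]
  exact TopCat.Presheaf.germ_res_apply _ _ _ _ _

theorem ker_locally (hd : EFact X) (hη : MaxFamily η) (U : X.Etale) (t : EtCoh.sect (∐ Jm η) U)
    (ht : (beta η hd).hom.app (op U) t = 0) (v : U.left) :
    ∃ (V : X.Etale) (g : V ⟶ U) (v' : V.left) (s : EtCoh.sect (EtCoh.Gm X) V),
      g.left.base v' = v ∧ (alpha η).hom.app (op V) s = rs (∐ Jm η) g t := by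
  haveI : AlgebraicGeometry.Etale U.hom := U.prop
  haveI := isLocallyNoetherian_left U
  haveI : IsLocallyNoetherian ((Functor.fromPUnit X).obj U.right) := ‹IsLocallyNoetherian X›
  have hz : ∀ u w : U.left, u ⤳ w → IsMax u → w ⤳ v → ringKrullDim (U.left.presheaf.stalk w) = 1 →
      ordAt w u (val η U t u) = 0 := by
    intro u w h hu _ hw
    have hw1 : ringKrullDim (X.presheaf.stalk (U.hom.base w)) = 1 :=
      (EtStalk.ringKrullDim_stalk U.hom w).symm.trans hw
    let k : P1 X := ⟨⟨U.hom.base w, hw1⟩⟩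
    have h1 := (proj_beta hd U t k).symm.trans
      ((congrArg ((CoprodProd.proj M k).hom.app (op U)) ht).trans (map_zero _))
    have h2 := toSec_injective _ (h1.trans (eq_toSec (k := X.residueField k.down.1) _ (fun _ => 0) 0 fun _ => by
      rw [map_zero]; exact (map_zero _).symm))
    obtain ⟨p, hp⟩ : w ∈ Set.range (pr (PointPush.ι k.down.1) U).base := by
      rw [range_pr, PointPush.range_ι]
      rfl
    have h3 := congrFun h2 p
    simp only [hp] at h3
    rw [← sum_nval hd U t h hu]
    exact h3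
  obtain ⟨O, hvO, s, hs, heq⟩ := exists_nhd_unit (hd U) v (val η U t) hz
  obtain ⟨s', hs'⟩ := exists_unit_restrict U O s hs
  let W := restrictEtale U O
  let g := restrictEtaleHom U O
  haveI : AlgebraicGeometry.Etale W.hom := W.prop
  haveI : AlgebraicGeometry.Etale g.left := etale_left g
  refine ⟨W, g, ⟨v, hvO⟩, NormGm.mk W s', rfl, sect_ext (Jm η) W _ _ fun i => ?_⟩
  let f := X.fromSpecStalk (η i)
  refine un_injective ((EtCoh.bc f).obj W) (eq_of_isEv f W (isEv_ev f W _) (isEv_ev f W _) fun p => ?_)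
  let q := (pr f W).base p
  have hqi : W.hom.base q = η i := (mem_range_iff hη W i q).1 ⟨p, rfl⟩
  have hq : IsMax q := isMax_of_map W.hom (by rw [hqi]; exact hη.isMax i)
  refine (val_eq hη W _ i q hqi).symm.trans (Units.ext ?_)
  refine (val_alpha hη W _ q hq).trans ((hs' q).trans ?_)
  have hgq : U.hom.base (g.left.base q) = η i := by
    have hw : g.left ≫ U.hom = W.hom := MorphismProperty.Over.w g
    rw [← hqi, ← hw, Scheme.Hom.comp_apply]
  have hnat : (CoprodProd.proj (Jm η) i).hom.app (op W) (rs (∐ Jm η) g t) =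
      rs (Jm η i) g ((CoprodProd.proj (Jm η) i).hom.app (op U) t) :=
    (rs_nat (CoprodProd.proj (Jm η) i) g t).symm
  refine Eq.trans ?_ (congrArg (fun z => (ev f W (un (U := (EtCoh.bc f).obj W) z) q : W.left.presheaf.stalk q)) hnat).symm
  refine Eq.trans ?_ (congrArg Units.val (ev_map f g (comp η U t i) q)).symm
  refine congrArg (O.ι.stalkMap q).hom ?_
  exact (heq _ q.2 (isMax_map g.left hq)).trans (congrArg Units.val (val_eq hη U t i _ hgq))

theorem exists_section_of_subsingleton {P : Scheme.{u}} [Subsingleton P] (p : P) (a : (P.presheaf.stalk p)ˣ) :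
    ∃ t : Γ(P, ⊤)ˣ, P.presheaf.germ ⊤ p trivial (t : Γ(P, ⊤)) = a := by
  have hb : ∀ b : P.presheaf.stalk p, ∃ s : Γ(P, ⊤), P.presheaf.germ ⊤ p trivial s = b := by
    intro b
    obtain ⟨U, hp, s, rfl⟩ := P.presheaf.exists_germ_eq b
    obtain rfl : U = ⊤ := top_unique fun x _ => Subsingleton.elim p x ▸ hp
    exact ⟨s, rfl⟩
  obtain ⟨s, hs⟩ := hb a
  obtain ⟨s', hs'⟩ := hb (a⁻¹ : (P.presheaf.stalk p)ˣ)
  have h1 : s * s' = 1 := by
    refine TopCat.Presheaf.section_ext P.sheaf _ _ _ fun x _ => ?_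
    obtain rfl := Subsingleton.elim p x
    show P.presheaf.germ ⊤ p trivial (s * s') = P.presheaf.germ ⊤ p trivial 1
    rw [map_mul, hs, hs', Units.mul_inv, map_one]
  exact ⟨⟨s, s', h1, by rw [mul_comm, h1]⟩, hs⟩

theorem coker_locally (hd : EFact X) (hη : MaxFamily η) (k : P1 X) (U : X.Etale) (z : EtCoh.sect (M k) U)
    (v : U.left) :
    ∃ (V : X.Etale) (g : V ⟶ U) (v' : V.left) (t : EtCoh.sect (∐ Jm η) V), g.left.base v' = v ∧
      (beta η hd).hom.app (op V) t = (Sigma.ι M k).hom.app (op V) (rs (M k) g z) := by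
  classical
  haveI : AlgebraicGeometry.Etale U.hom := U.prop
  haveI := isLocallyNoetherian_left U
  let ιx := PointPush.ι k.down.1
  obtain ⟨n, rfl⟩ := toSec_surjective (k := X.residueField k.down.1) ((EtCoh.bc ιx).obj U) z
  let n' : U.left → ℤ := Function.extend (pr ιx U).base n 0
  have hinj : Function.Injective (pr ιx U).base := injective_pr ιx U
  have hn' : ∀ w, n' w ≠ 0 → U.hom.base w = k.down.1 := by
    intro w hw
    by_contra hne
    refine hw (Function.extend_apply' _ _ _ ?_)
    rintro ⟨p, rfl⟩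
    have h1 : (pr ιx U).base p ∈ U.hom.base ⁻¹' Set.range ιx.base := (range_pr ιx U).le ⟨p, rfl⟩
    rw [PointPush.range_ι] at h1
    exact hne h1
  obtain ⟨O₀, hO₀, hv₀, -⟩ := exists_isAffineOpen_mem_and_subset (U := (⊤ : U.left.Opens)) (x := v) trivial
  have hfin : {w : U.left | w ∈ O₀ ∧ n' w ≠ 0}.Finite := by
    refine (finite_maximal_in hO₀ (Z := U.hom.base ⁻¹' closure {k.down.1})
      (isClosed_closure.preimage U.hom.continuous)).subset ?_
    rintro w ⟨hw, hne⟩
    refine ⟨hw, subset_closure (hn' w hne), fun g hg hgw => ?_⟩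
    have hx : U.hom.base g = k.down.1 :=
      ((specializes_iff_mem_closure.2 hg).antisymm ((hgw.map U.hom.continuous).trans (specializes_of_eq (hn' w hne)))).eq.symm
    haveI := CdLib.LevelMap.locallyQuasiFinite_of_formallyUnramified U.hom
    exact (U.hom.isDiscrete_preimage_singleton k.down.1).eq_of_specializes hgw hx (hn' w hne)
  obtain ⟨u, huv, hu⟩ := exists_isMax (hd U) v
  obtain ⟨z0, O, hvO, -, hsingle, hord⟩ := exists_with_ord (hd U) huv hu n' hv₀ hfin
  have huO : u ∈ O := huv.mem_open O.isOpen hvO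
  let W := restrictEtale U O
  let g := restrictEtaleHom U O
  haveI : AlgebraicGeometry.Etale W.hom := W.prop
  haveI : AlgebraicGeometry.Etale g.left := etale_left g
  obtain ⟨i, hi⟩ := hη.cover _ (isMax_map U.hom hu)
  let f := X.fromSpecStalk (η i)
  obtain ⟨u', rfl⟩ : ∃ u' : W.left, g.left.base u' = u := ⟨⟨u, huO⟩, rfl⟩
  have hu' : IsMax u' := isMax_of_map g.left hu
  have hu'i : W.hom.base u' = η i := by
    have hw : g.left ≫ U.hom = W.hom := MorphismProperty.Over.w g
    rw [← hw, Scheme.Hom.comp_apply]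
    exact hi.symm
  obtain ⟨p, hp⟩ : u' ∈ Set.range (pr f W).base := (mem_range_iff hη W i u').2 hu'i
  haveI : Subsingleton ((EtCoh.bc f).obj W).left := by
    refine ⟨fun a b => injective_pr f W ?_⟩
    have key : ∀ c, (pr f W).base c = u' := fun c => by
      have hc : W.hom.base ((pr f W).base c) = η i := (mem_range_iff hη W i _).1 ⟨c, rfl⟩
      have hm : IsMax ((pr f W).base c) := isMax_of_map W.hom (by rw [hc]; exact hη.isMax i)
      exact Subtype.ext (hsingle _ ((pr f W).base c).2 (isMax_map g.left hm))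
    rw [key a, key b]
  subst hp
  obtain ⟨tu, htu⟩ := exists_section_of_subsingleton p
    (Units.map ((pr f W).stalkMap p).hom.toMonoidHom (smU g.left ((pr f W).base p) z0))
  have hev : ev f W tu ((pr f W).base p) = smU g.left ((pr f W).base p) z0 :=
    Units.ext ((bijective_stalkMap_pr f W p).1 (((isEv_ev f W tu).1 p).trans htu))
  let ti : EtCoh.sect (Jm η i) W := NormGm.mk ((EtCoh.bc f).obj W) tu
  refine ⟨W, g, ⟨v, hvO⟩, (Sigma.ι (Jm η) i).hom.app (op W) ti, rfl, sect_ext M W _ _ fun k' => ?_⟩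
  have e1 : (CoprodProd.proj M k').hom.app (op W) ((beta η hd).hom.app (op W) ((Sigma.ι (Jm η) i).hom.app (op W) ti)) =
      ordSec f hd k' W ti := congrArg (fun φ : Jm η i ⟶ M k' => φ.hom.app (op W) ti) (ι_beta_proj η hd i k')
  rw [e1]
  have hval : ∀ w : W.left, ringKrullDim (W.left.presheaf.stalk w) = 1 → nval f hd W tu w = n' (g.left.base w) := by
    intro w hw
    haveI := isLocallyNoetherian_left W
    obtain ⟨q, hq, hqm⟩ := exists_isMax (hd W) w
    obtain rfl : q = (pr f W).base p := Subtype.ext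
      ((hsingle _ q.2 (isMax_map g.left hqm)).trans rfl)
    rw [nval_eq f hd W tu hq hqm, hev, ordAt_map g.left (hd U) (hd W) w _ hq hqm]
    exact hord _ w.2 ((EtStalk.ringKrullDim_stalk g.left w).symm.trans hw)
  let ι' := PointPush.ι k'.down.1
  have hdim : ∀ w, ringKrullDim (W.left.presheaf.stalk ((pr ι' W).base w)) = 1 ∧
      W.hom.base ((pr ι' W).base w) = k'.down.1 := fun w => by
    have h1 : (pr ι' W).base w ∈ W.hom.base ⁻¹' Set.range ι'.base := (range_pr ι' W).le ⟨w, rfl⟩
    rw [PointPush.range_ι] at h1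
    haveI : IsLocallyNoetherian ((Functor.fromPUnit X).obj W.right) := ‹IsLocallyNoetherian X›
    exact ⟨(EtStalk.ringKrullDim_stalk W.hom ((pr ι' W).base w)).trans
      ((congrArg (fun y : X => ringKrullDim (X.presheaf.stalk y)) h1).trans k'.down.2), h1⟩
  have e0 : ordSec f hd k' W ti = toSec (k := X.residueField k'.down.1) ((EtCoh.bc ι').obj W)
      fun w => n' (g.left.base ((pr ι' W).base w)) :=
    congrArg (toSec _) (funext fun w => hval _ (hdim w).1)
  rw [e0]
  by_cases hk : k = k'
  · subst hk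
    refine Eq.trans ?_ (congrArg (fun φ : M k ⟶ M k => φ.hom.app (op W) (rs (M k) g _)) (CoprodProd.ι_proj_self M k)).symm
    refine Eq.trans ?_ (rs_toSec_map (k := X.residueField k.down.1) ((EtCoh.bc ιx).map g) n).symm
    refine congrArg (toSec _) (funext fun w => ?_)
    have hw : ((EtCoh.bc ιx).map g).left ≫ pr ιx U = pr ιx W ≫ g.left := (EtCoh.isPullback_bc_map ιx g).w
    refine (congrArg n' ?_).trans (hinj.extend_apply n 0 _)
    exact (Scheme.Hom.comp_apply _ _ w).symm.trans ((congrArg (fun m => m.base w) hw.symm).trans (Scheme.Hom.comp_apply _ _ w))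
  · refine Eq.trans ?_ (congrArg (fun φ : M k ⟶ M k' => φ.hom.app (op W) (rs (M k) g _)) (CoprodProd.ι_proj_ne M hk)).symm
    refine Eq.trans (congrArg (toSec _) (funext fun w => ?_)) ((eq_toSec _ _ 0 fun w => by
      rw [map_zero]; exact (map_zero _).symm).symm : toSec _ (fun _ => (0 : ℤ)) = 0)
    by_contra hne
    refine hk (ULift.ext _ _ (Subtype.ext ((hn' _ hne).symm.trans ?_)))
    have hw : g.left ≫ U.hom = W.hom := MorphismProperty.Over.w g
    exact ((Scheme.Hom.comp_apply _ _ _).symm.trans (congrArg (fun m : W.left ⟶ X => m.base ((pr ι' W).base w)) hw)).trans (hdim w).2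

/-- The divisor sequence. -/
noncomputable abbrev seq : ShortComplex (EtCoh.Ab X) :=
  ShortComplex.mk (alpha η) (beta η hd) (alpha_beta hd hη)

/-- The divisor sequence is short exact. -/
theorem shortExact_seq : (seq hd hη).ShortExact := by
  haveI := mono_alpha hd hη
  have hzero : ∀ {F G : EtCoh.Ab X} (π : F ⟶ G),
      (∀ (U : X.Etale) (z : EtCoh.sect F U), π.hom.app (op U) z = 0) → π = 0 := fun π h =>
    Sheaf.hom_ext (NatTrans.ext (funext fun V => AddCommGrpCat.hom_ext (AddMonoidHom.ext fun z => h V.unop z)))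
  have hepi : Epi (beta η hd) := by
    refine Preadditive.epi_of_cokernel_zero (Sigma.hom_ext _ _ fun k => (hzero _ fun U z => ?_).trans comp_zero.symm)
    refine ext_of_local _ U _ 0 fun v => ?_
    obtain ⟨V, g, v', t, hv', ht⟩ := coker_locally hd hη k U z v
    refine ⟨V, g, v', hv', ?_⟩
    rw [map_zero]
    refine (rs_nat (Sigma.ι M k ≫ cokernel.π (beta η hd)) g z).trans ?_
    refine (congrArg ((cokernel.π (beta η hd)).hom.app (op V)) ht.symm).trans ?_
    exact congrArg (fun φ : ∐ Jm η ⟶ cokernel (beta η hd) => φ.hom.app (op V) t) (cokernel.condition _)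
  refine ShortComplex.ShortExact.mk' ?_ inferInstance hepi
  rw [ShortComplex.exact_iff_epi_kernel_lift]
  show Epi (kernel.lift (beta η hd) (alpha η) (alpha_beta hd hη))
  refine Preadditive.epi_of_cokernel_zero (hzero _ fun U z => ?_)
  refine ext_of_local _ U _ 0 fun v => ?_
  let ι := kernel.ι (beta η hd)
  obtain ⟨V, g, v', s, hv', hs⟩ := ker_locally hd hη U (ι.hom.app (op U) z)
    (congrArg (fun φ : kernel (beta η hd) ⟶ ∐ M => φ.hom.app (op U) z) (kernel.condition _)) v
  refine ⟨V, g, v', hv', ?_⟩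
  rw [map_zero]
  refine (rs_nat (cokernel.π _) g z).trans ?_
  have e : rs (kernel (beta η hd)) g z =
      (kernel.lift (beta η hd) (alpha η) (alpha_beta hd hη)).hom.app (op V) s := by
    haveI : LocallySmall.{u + 1} X.Etale := ⟨fun _ _ => inferInstance⟩
    refine SiteBase.sheaf_app_injective ι _ ?_
    refine (rs_nat ι g z).symm.trans (hs.symm.trans ?_)
    exact (congrArg (fun φ : EtCoh.Gm X ⟶ ∐ Jm η => φ.hom.app (op V) s) (kernel.lift_ι _ _ _)).symm
  rw [e]
  exact congrArg (fun φ : EtCoh.Gm X ⟶ cokernel (kernel.lift (beta η hd) (alpha η) (alpha_beta hd hη)) =>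
    φ.hom.app (op V) s) (cokernel.condition _)

end Groth.Agent.DixBrauer.DivSeq
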