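import Groth.Agent.DixBrauer.DivSeq.Local

/-!
Finiteness of the zeros and poles of units of the generic stalks.
-/

universe u

set_option linter.style.haveILetI false
set_option backward.isDefEq.respectTransparency.types false

open CategoryTheory AlgebraicGeometry IsLocalRing TopologicalSpace

namespace Groth.Agent.DixBrauer.DivSeq

variable {X : Scheme.{u}}

theorem finite_maximal_closed {T : Type*} [TopologicalSpace T] [NoetherianSpace T] [QuasiSober T] [T0Space T]
    (Z : Set T) (hZ : IsClosed Z) : {q | q ∈ Z ∧ ∀ g ∈ Z, g ⤳ q → g = q}.Finite := by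
  haveI : QuasiSober ↥Z := hZ.isClosedEmbedding_subtypeVal.quasiSober
  have hfin : {q : ↥Z | ∀ g : ↥Z, g ⤳ q → g = q}.Finite := by
    refine Set.Finite.subset (Set.Finite.biUnion NoetherianSpace.finite_irreducibleComponents
      (t := fun C => {q | ∃ g : ↥Z, IsGenericPoint g C ∧ g = q})
      fun C _ => Set.Subsingleton.finite ?_) fun q hq => ?_
    · rintro a ⟨g, hg, rfl⟩ b ⟨g', hg', rfl⟩
      exact hg.eq hg'
    · obtain ⟨C, hC, hqC⟩ : ∃ C ∈ irreducibleComponents ↥Z, q ∈ C :=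
        ⟨irreducibleComponent q, irreducibleComponent_mem_irreducibleComponents q, mem_irreducibleComponent⟩
      obtain ⟨g, hg⟩ := QuasiSober.sober hC.1 (isClosed_of_mem_irreducibleComponents C hC)
      simp only [Set.mem_iUnion]
      exact ⟨C, hC, g, hg, hq g (hg.specializes hqC)⟩
  refine (hfin.image Subtype.val).subset ?_
  rintro q ⟨hq, hq'⟩
  exact ⟨⟨q, hq⟩, fun g hg => Subtype.ext (hq' g.1 g.2 (hg.map continuous_subtype_val)), rfl⟩

variable [IsLocallyNoetherian X]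

theorem finite_maximal_in {O : X.Opens} (hO : IsAffineOpen O) {Z : Set X} (hZ : IsClosed Z) :
    {q : X | q ∈ O ∧ q ∈ Z ∧ ∀ g ∈ Z, g ⤳ q → g = q}.Finite := by
  haveI : IsAffine O.toScheme := hO
  haveI : IsNoetherian O.toScheme := {}
  have h := finite_maximal_closed (T := O.toScheme) (O.ι.base ⁻¹' Z) (hZ.preimage O.ι.base.hom.continuous)
  refine (h.image O.ι.base).subset ?_
  rintro q ⟨hqO, hqZ, hq⟩
  exact ⟨⟨q, hqO⟩, ⟨hqZ, fun g hg hgq => O.ι.isEmbedding.injective (hq _ hg (hgq.map O.ι.continuous))⟩, rfl⟩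

theorem finite_isMax {O : X.Opens} (hO : IsAffineOpen O) : {q : X | q ∈ O ∧ IsMax q}.Finite :=
  (finite_maximal_in hO isClosed_univ).subset fun _ hq => ⟨hq.1, trivial, fun g _ hg => hq.2 g hg⟩

-- A neighbourhood avoiding closures of finitely many points.
omit [IsLocallyNoetherian X] in
theorem exists_nhd_avoid {v : X} {O : X.Opens} (hv : v ∈ O) {B : Set X} (hB : B.Finite) :
    ∃ O' : X.Opens, IsAffineOpen O' ∧ v ∈ O' ∧ O' ≤ O ∧ ∀ b ∈ B, b ∈ O' → b ⤳ v := by
  classical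
  let C : Set X := ⋃ b ∈ B ∩ {b | ¬ b ⤳ v}, closure {b}
  have hC : IsClosed C := (hB.inter_of_left _).isClosed_biUnion fun b _ => isClosed_closure
  have hvC : v ∉ C := by
    simp only [C, Set.mem_iUnion, not_exists]
    exact fun b hb hvb => hb.2 (specializes_iff_mem_closure.2 hvb)
  obtain ⟨O', hO', hvO', hsub⟩ := exists_isAffineOpen_mem_and_subset (U := O ⊓ ⟨Cᶜ, hC.isOpen_compl⟩)
    (show v ∈ O ⊓ ⟨Cᶜ, hC.isOpen_compl⟩ from ⟨hv, hvC⟩)
  refine ⟨O', hO', hvO', fun a ha => (hsub ha).1, fun b hb hbO => by_contra fun hne => (hsub hbO).2 ?_⟩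
  simp only [C, Set.mem_iUnion]
  exact ⟨b, ⟨hb, hne⟩, subset_closure rfl⟩

/-- Near each point there is only one maximal point. -/
theorem exists_nhd_single (hd : Fact X) {u v : X} (h : u ⤳ v) (hu : IsMax u) {O₀ : X.Opens}
    (hv : v ∈ O₀) :
    ∃ O : X.Opens, IsAffineOpen O ∧ v ∈ O ∧ O ≤ O₀ ∧ ∀ q ∈ O, IsMax q → q = u := by
  obtain ⟨O₁, hO₁, hv₁, hsub⟩ := exists_isAffineOpen_mem_and_subset hv
  obtain ⟨O, hO, hvO, hle, hO'⟩ := exists_nhd_avoid hv₁ (finite_isMax hO₁)
  exact ⟨O, hO, hvO, fun a ha => hsub (hle ha),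
    fun q hq hqm => isMax_unique hd (hO' q ⟨hle hq, hqm⟩ hq) h hqm hu⟩

theorem ne_of_ringKrullDim_eq_one {q : X} (hq : ringKrullDim (X.presheaf.stalk q) = 1) {u : X}
    (hu : IsMax u) (hd : Fact X) : u ≠ q := by
  rintro rfl
  haveI := (hd u).1
  haveI := isDVR hd hq
  obtain ⟨π, hπ⟩ := IsDiscreteValuationRing.exists_irreducible (X.presheaf.stalk u)
  have h1 := (isUnit_sp_of_ne_zero hd (specializes_rfl (x := u)) hu hπ.ne_zero)
  refine hπ.not_isUnit ?_
  simpa [sp, TopCat.Presheaf.stalkSpecializes_refl] using h1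

/-- The zeros and poles are finite near each point. -/
theorem exists_nhd_finite (hd : Fact X) {u v : X} (h : u ⤳ v) (hu : IsMax u)
    (z : (X.presheaf.stalk u)ˣ) :
    ∃ O : X.Opens, IsAffineOpen O ∧ v ∈ O ∧ (∀ q ∈ O, IsMax q → q = u) ∧
      {w : X | w ∈ O ∧ ordAt w u z ≠ 0}.Finite := by
  obtain ⟨a, b, ha, hb, -, hab⟩ := exists_div hd h hu z
  obtain ⟨Oa, hva, sa, rfl⟩ := X.presheaf.exists_germ_eq a
  obtain ⟨Ob, hvb, sb, rfl⟩ := X.presheaf.exists_germ_eq b
  obtain ⟨O, hO, hvO, hle, hsingle⟩ := exists_nhd_single hd h hu (show v ∈ Oa ⊓ Ob from ⟨hva, hvb⟩)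
  refine ⟨O, hO, hvO, hsingle, ?_⟩
  let Za : Set X := (O : Set X)ᶜ ∪ ((X.basicOpen sa : Set X))ᶜ
  let Zb : Set X := (O : Set X)ᶜ ∪ ((X.basicOpen sb : Set X))ᶜ
  refine ((finite_maximal_in hO (Z := Za) ?_).union (finite_maximal_in hO (Z := Zb) ?_)).subset ?_
  · exact O.isOpen.isClosed_compl.union (X.basicOpen sa).isOpen.isClosed_compl
  · exact O.isOpen.isClosed_compl.union (X.basicOpen sb).isOpen.isClosed_compl
  rintro w ⟨hwO, hw⟩
  have hh : u ⤳ w ∧ IsMax u ∧ ringKrullDim (X.presheaf.stalk w) = 1 :=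
    not_not.1 fun hne => hw (ordAt_eq_zero hne)
  obtain ⟨huw, -, hw1⟩ := hh
  have hwa : w ∈ Oa := (hle hwO).1
  have hwb : w ∈ Ob := (hle hwO).2
  have hgen : ∀ (U : X.Opens) (s : Γ(X, U)) (hvU : v ∈ U) (hwU : w ∈ U),
      sp huw (X.presheaf.germ U w hwU s) = sp h (X.presheaf.germ U v hvU s) := fun U s hvU hwU => by
    exact (TopCat.Presheaf.germ_stalkSpecializes_apply _ _ _ _).trans
      (TopCat.Presheaf.germ_stalkSpecializes_apply _ _ _ _).symm
  have hmax : ∀ (U : X.Opens) (s : Γ(X, U)) (hvU : v ∈ U) (hwU : w ∈ U),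
      IsUnit (sp h (X.presheaf.germ U v hvU s)) → w ∉ X.basicOpen s →
      w ∈ O ∧ w ∈ (O : Set X)ᶜ ∪ ((X.basicOpen s : Set X))ᶜ ∧
        ∀ g ∈ (O : Set X)ᶜ ∪ ((X.basicOpen s : Set X))ᶜ, g ⤳ w → g = w := by
    intro U s hvU hwU hus hws
    refine ⟨hwO, Or.inr hws, fun g hg hgw => ?_⟩
    have hgO : g ∈ O := hgw.mem_open O.isOpen hwO
    have hgU : g ∈ U := hgw.mem_open U.isOpen hwU
    by_contra hne
    have hgmax : IsMax g := by
      intro y hy
      haveI := (hd w).1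
      haveI := isDVR hd hw1
      have hyw := hy.trans hgw
      have hgw' : (CDiv6.primeOf hgw).asIdeal = ⊥ := by
        by_contra hb'
        refine hne (H23.StalkPrimes.primeOf_inj hgw specializes_rfl ?_)
        rw [IsLocalRing.eq_maximalIdeal (Ideal.IsPrime.isMaximal inferInstance hb')]
        refine (IsLocalRing.eq_maximalIdeal ?_).symm
        refine Ideal.IsPrime.isMaximal inferInstance fun hb'' => hb' (le_bot_iff.1 ?_)
        rw [← hb'']
        exact (H23.StalkPrimes.primeOf_le_iff specializes_rfl hgw).2 hgw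
      exact (hy.antisymm ((H23.StalkPrimes.primeOf_le_iff hyw hgw).1 (hgw'.le.trans bot_le))).eq
    obtain rfl := hsingle g hgO hgmax
    refine hg.elim (fun h' => h' hgO) fun h' => h' ?_
    rw [SetLike.mem_coe, Scheme.mem_basicOpen X s g hgU]
    have e := hgen U s hvU hwU
    rw [TopCat.Presheaf.germ_stalkSpecializes_apply] at e
    exact e.symm ▸ hus
  by_contra hout
  simp only [Set.mem_union, Set.mem_ofPred_eq, not_or] at hout
  have hua : IsUnit (sp h (X.presheaf.germ Oa v hva sa)) := isUnit_sp_of_ne_zero hd h hu ha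
  have hub : IsUnit (sp h (X.presheaf.germ Ob v hvb sb)) := isUnit_sp_of_ne_zero hd h hu hb
  have h1 : IsUnit (X.presheaf.germ Oa w hwa sa) := by
    by_contra hn
    exact hout.1 (hmax Oa sa hva hwa hua fun h' => hn ((Scheme.mem_basicOpen X sa w hwa).1 h'))
  have h2 : IsUnit (X.presheaf.germ Ob w hwb sb) := by
    by_contra hn
    exact hout.2 (hmax Ob sb hvb hwb hub fun h' => hn ((Scheme.mem_basicOpen X sb w hwb).1 h'))
  refine hw ?_
  have e : z * Units.map (sp huw).toMonoidHom h2.unit = Units.map (sp huw).toMonoidHom h1.unit := Units.ext (by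
    show (z : X.presheaf.stalk u) * sp huw (X.presheaf.germ Ob w hwb sb) = sp huw (X.presheaf.germ Oa w hwa sa)
    rw [hgen Oa sa hva hwa, hgen Ob sb hvb hwb]
    exact hab)
  have hm := ordAt_mul hd w u z (Units.map (sp huw).toMonoidHom h2.unit)
  rw [e, ordAt_sp_unit hd huw, ordAt_sp_unit hd huw] at hm
  omega

/-- Finiteness on affine opens. -/
theorem finite_support (hd : Fact X) {O : X.Opens} (hO : IsAffineOpen O)
    (zf : ∀ q : X, (X.presheaf.stalk q)ˣ) :
    {w : X | w ∈ O ∧ ∃ u, ordAt w u (zf u) ≠ 0}.Finite := by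
  have key : ∀ v : X, ∃ O' : X.Opens, v ∈ O' ∧ {w : X | w ∈ O' ∧ ∃ u, ordAt w u (zf u) ≠ 0}.Finite := by
    intro v
    obtain ⟨u, h, hu⟩ := exists_isMax hd v
    obtain ⟨O', -, hv, hsingle, hfin⟩ := exists_nhd_finite hd h hu (zf u)
    refine ⟨O', hv, hfin.subset ?_⟩
    rintro w ⟨hw, q, hq⟩
    have hh : q ⤳ w ∧ IsMax q ∧ ringKrullDim (X.presheaf.stalk w) = 1 :=
      not_not.1 fun hne => hq (ordAt_eq_zero hne)
    obtain rfl := hsingle q (hh.1.mem_open O'.isOpen hw) hh.2.1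
    exact ⟨hw, hq⟩
  choose Ov hv hfin using key
  obtain ⟨t, ht⟩ := hO.isCompact.elim_finite_subcover (fun v : X => (Ov v : Set X))
    (fun v => (Ov v).isOpen) fun w _ => Set.mem_iUnion.2 ⟨w, hv w⟩
  refine (t.finite_toSet.biUnion fun v _ => hfin v).subset fun w hw => ?_
  obtain ⟨v, hvt, hwv⟩ := Set.mem_iUnion₂.1 (ht hw.1)
  exact Set.mem_biUnion hvt ⟨hwv, hw.2⟩

omit [IsLocallyNoetherian X] in
theorem height_primeOf_eq_one {w v : X} (h : w ⤳ v) (hw : ringKrullDim (X.presheaf.stalk w) = 1) :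
    (CDiv6.primeOf h).asIdeal.height = 1 := by
  rw [CDiv6.height_primeOf]
  rw [ringKrullDim_stalk_eq_coheight] at hw
  exact_mod_cast hw

/-- Prescribed zeros and poles near a point. -/
theorem exists_with_ord (hd : Fact X) {u v : X} (h : u ⤳ v) (hu : IsMax u) (n : X → ℤ) {O₀ : X.Opens}
    (hv : v ∈ O₀) (hn : {w : X | w ∈ O₀ ∧ n w ≠ 0}.Finite) :
    ∃ (z : (X.presheaf.stalk u)ˣ) (O : X.Opens), v ∈ O ∧ O ≤ O₀ ∧ (∀ q ∈ O, IsMax q → q = u) ∧
      ∀ w ∈ O, ringKrullDim (X.presheaf.stalk w) = 1 → ordAt w u z = n w := by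
  classical
  haveI := (hd v).1
  haveI := (hd v).2
  let S := {w : X | (w ∈ O₀ ∧ n w ≠ 0) ∧ w ⤳ v ∧ ringKrullDim (X.presheaf.stalk w) = 1}
  have hS : S.Finite := hn.subset fun _ hw => hw.1
  have hgen : ∀ (w : X) (hw : w ⤳ v), ringKrullDim (X.presheaf.stalk w) = 1 →
      ∃ p : X.presheaf.stalk v, Prime p ∧ (CDiv6.primeOf hw).asIdeal = Ideal.span {p} := by
    intro w hw hw1
    have hh := height_primeOf_eq_one hw hw1
    obtain ⟨p, hpm, hp⟩ := (CDiv6.primeOf hw).2.exists_mem_prime_of_ne_bot fun hb => by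
      rw [hb, Ideal.height_bot] at hh
      exact zero_ne_one hh
    haveI : (Ideal.span {p}).IsPrime := (Ideal.span_singleton_prime hp.ne_zero).2 hp
    exact ⟨p, hp, (CDiv6.eq_of_le_of_height_one (fun hb => hp.ne_zero (Ideal.span_singleton_eq_bot.1 hb))
      ((Ideal.span_singleton_le_iff_mem _).2 hpm) hh).symm⟩
  let Pu : X → (X.presheaf.stalk u)ˣ := fun w =>
    if hw : w ⤳ v ∧ ringKrullDim (X.presheaf.stalk w) = 1 then
      (isUnit_sp_of_ne_zero hd h hu (hgen w hw.1 hw.2).choose_spec.1.ne_zero).unit else 1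
  let z := ∏ w ∈ hS.toFinset, Pu w ^ n w
  have hsum : ∀ (T : Finset X) (w : X), ordAt w u (∏ q ∈ T, Pu q ^ n q) = ∑ q ∈ T, ordAt w u (Pu q ^ n q) := by
    intro T w
    induction T using Finset.induction with
    | empty =>
      rw [Finset.prod_empty, Finset.sum_empty]
      have h2 := ordAt_mul hd w u 1 1
      rw [mul_one] at h2
      omega
    | insert a T ha ih => rw [Finset.prod_insert ha, Finset.sum_insert ha, ordAt_mul hd, ih]
  have hord : ∀ w, u ⤳ w → w ⤳ v → ringKrullDim (X.presheaf.stalk w) = 1 → w ∈ O₀ → ordAt w u z = n w := by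
    intro w huw hwv hw1 hwO
    haveI := (hd w).1
    have hsp : ∀ x, sp huw (sp hwv x) = sp h x := fun x =>
      (ConcreteCategory.comp_apply _ _ x).symm.trans (by rw [TopCat.Presheaf.stalkSpecializes_comp])
    rw [hsum, Finset.sum_eq_single w]
    · obtain ⟨hp, he⟩ := (hgen w hwv hw1).choose_spec
      refine ordAt_sp_pow hd huw hu hw1 (π := sp hwv (hgen w hwv hw1).choose) ?_ ?_ (n w)
      · haveI := isDVR hd hw1
        rw [IsDiscreteValuationRing.irreducible_iff_uniformizer]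
        letI := (sp hwv).toAlgebra
        haveI := H23.StalkPrimes.isLocalization_primeOf hwv
        rw [← IsLocalization.AtPrime.map_eq_maximalIdeal (CDiv6.primeOf hwv).asIdeal (X.presheaf.stalk w)]
        refine (congrArg (Ideal.map (algebraMap (X.presheaf.stalk v) (X.presheaf.stalk w))) he).trans ?_
        rw [Ideal.map_span, Set.image_singleton]
        rfl
      · simp only [Pu, dif_pos (And.intro hwv hw1), IsUnit.unit_spec]
        exact hsp _
    · intro q hq hqw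
      obtain ⟨-, hqv, hq1⟩ := hS.mem_toFinset.1 hq
      obtain ⟨hp, he⟩ := (hgen q hqv hq1).choose_spec
      have hun : IsUnit (sp hwv (hgen q hqv hq1).choose) := by
        rw [← not_not (a := IsUnit _), ← CDiv6.mem_primeOf hwv]
        intro hmem
        refine hqw (H23.StalkPrimes.primeOf_inj hqv hwv (CDiv6.eq_of_le_of_height_one ?_ ?_
          (height_primeOf_eq_one hwv hw1)))
        · rw [he]
          exact fun hb => hp.ne_zero (Ideal.span_singleton_eq_bot.1 hb)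
        · rw [he]
          exact (Ideal.span_singleton_le_iff_mem _).2 hmem
      have e : Pu q = Units.map (sp huw).toMonoidHom hun.unit := Units.ext (by
        simp only [Pu, dif_pos (And.intro hqv hq1), IsUnit.unit_spec]
        exact (hsp _).symm)
      rw [e, ← map_zpow, ordAt_sp_unit hd huw]
    · intro hw
      have : n w = 0 := by
        by_contra hne
        exact hw (hS.mem_toFinset.2 ⟨⟨hwO, hne⟩, hwv, hw1⟩)
      rw [this, zpow_zero, ← map_one (Units.map (sp huw).toMonoidHom), ordAt_sp_unit hd huw]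
  obtain ⟨O₁, -, hv₁, hsingle, hfin⟩ := exists_nhd_finite hd h hu z
  have hB : ({w : X | w ∈ O₀ ∧ n w ≠ 0} ∪ {w : X | w ∈ O₁ ∧ ordAt w u z ≠ 0}).Finite := hn.union hfin
  obtain ⟨O, -, hvO, hle, hav⟩ := exists_nhd_avoid (show v ∈ O₀ ⊓ O₁ from ⟨hv, hv₁⟩) hB
  refine ⟨z, O, hvO, fun a ha => (hle ha).1, fun q hq => hsingle q (hle hq).2, fun w hw hw1 => ?_⟩
  obtain ⟨u', hu'w, hu'⟩ := exists_isMax hd w
  obtain rfl := hsingle u' (hu'w.mem_open O₁.isOpen (hle hw).2) hu'
  by_contra hne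
  refine hne (hord w hu'w (hav w ?_ hw) hw1 (hle hw).1)
  by_cases hn0 : n w = 0
  · exact Or.inr ⟨(hle hw).2, fun h0 => hne (h0.trans hn0.symm)⟩
  · exact Or.inl ⟨(hle hw).1, hn0⟩

/-- A family of units without zeros and poles near `v` is a unit section near `v`. -/
theorem exists_nhd_unit (hd : Fact X) (v : X) (zf : ∀ q : X, (X.presheaf.stalk q)ˣ)
    (hz : ∀ u w : X, u ⤳ w → IsMax u → w ⤳ v → ringKrullDim (X.presheaf.stalk w) = 1 → ordAt w u (zf u) = 0) :
    ∃ O : X.Opens, v ∈ O ∧ ∃ s : Γ(X, O), IsUnit s ∧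
      ∀ (q : X) (hq : q ∈ O), IsMax q → X.presheaf.germ O q hq s = zf q := by
  obtain ⟨u, h, hu⟩ := exists_isMax hd v
  obtain ⟨a, ha⟩ := exists_unit_of_ordAt hd h hu (zf u) fun w h1 h2 h3 => hz u w h1 hu h2 h3
  obtain ⟨U, hvU, s₀, hs₀⟩ := X.presheaf.exists_germ_eq (a : X.presheaf.stalk v)
  have hvb : v ∈ X.basicOpen s₀ := by
    rw [Scheme.mem_basicOpen X s₀ v hvU, hs₀]
    exact a.isUnit
  obtain ⟨O, -, hvO, hle, hsingle⟩ := exists_nhd_single hd h hu hvb
  have hleU : O ≤ U := hle.trans (X.basicOpen_le s₀)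
  refine ⟨O, hvO, X.presheaf.map (homOfLE hleU).op s₀, ?_, fun q hq hqm => ?_⟩
  · have h := (RingedSpace.isUnit_res_basicOpen X.toLocallyRingedSpace.toRingedSpace s₀).map
      (X.presheaf.map (homOfLE hle).op).hom
    have e : X.presheaf.map (homOfLE hleU).op =
        X.presheaf.map (homOfLE (X.basicOpen_le s₀)).op ≫ X.presheaf.map (homOfLE hle).op := by
      rw [← Functor.map_comp]; rfl
    rw [e]
    exact h
  · obtain rfl := hsingle q hq hqm
    rw [TopCat.Presheaf.germ_res_apply, ← ha]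
    show _ = sp h (a : X.presheaf.stalk v)
    rw [← hs₀]
    exact (TopCat.Presheaf.germ_stalkSpecializes_apply _ _ _ _).symm

end Groth.Agent.DixBrauer.DivSeq
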